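import Cfsg.Agent.H938.Rgd
import Cfsg.Prelude.Def_Classification2


/-!
# Groups of Lie type of rank at least three are `Bad`
-/

set_option autoImplicit false
set_option linter.unusedSectionVars false

namespace Cfsg.Agent.H938

open Cfsg
open CoxeterSystem Cfsg.Agent.ChevalleyStructure.CoxeterGeom Cfsg.Agent.Tits.Roots Cfsg.Agent.Tits.Core
  Cfsg.Agent.Nodes.Comb Cfsg.Agent.Nodes.Reps Cfsg.Agent.Nodes.BNOf Cfsg.Agent.FixBN
  Cfsg.Agent.Nodes.RGDLib Cfsg.Agent.Nodes.RGDChev Cfsg.Agent.LieRecognition.BNCox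
  Cfsg.Agent.TitsThree Cfsg.Agent.Omega.ML.Ex.Typ

section Odd

open QuadraticMap
open Cfsg.Agent.LieClassical Cfsg.Agent.LieClassical.OrthCore Cfsg.Agent.LieClassical.OrthTrans
open Cfsg.Agent.LieClassical.OrthSimple Cfsg.Agent.LieClassical.OrthFinite
open Cfsg.Agent.LieClassical.OrthForms
open Cfsg.Agent.TitsThree.KSideO Cfsg.Agent.TitsThree.StdData
open Cfsg.Agent.Nodes Cfsg.Agent.Nodes.WittAll Cfsg.Agent.Nodes.WittU Cfsg.Agent.Nodes.WittInst
  Cfsg.Agent.TitsThree.Siegel Cfsg.Agent.TitsThree.SiegelGen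
  Cfsg.Agent.TitsThree.WittFrame Cfsg.Agent.TitsThree.WBridge Cfsg.Agent.TitsThree.WittWeyl
  Cfsg.Agent.TitsThree.FrameCN

/-- `PΩ_{2m+1}(F)`, odd characteristic, is of type `B_m`. -/
theorem typ_PO_odd {F : Type*} [Field F] {m : ℕ} [Finite F] (h2 : (2 : F) ≠ 0) (hm : 2 ≤ m) {p : ℕ} [Fact p.Prime]
    [CharP F p] : HasRGDT p (CoxeterMatrix.B m) (Cfsg.POmega F (Cfsg.quadFormOdd m F)) := by
  rw [← coe_oddForm]
  have hG : Good (oddForm m F) := by
    apply good_of_finite (nondeg_oddForm m F h2)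
    rw [Module.finrank_fintype_fun_eq_card, Fintype.card_sum, Fintype.card_sum, Fintype.card_fin,
      Fintype.card_unit]
    omega
  have hp : ((embOdd m F).ngt ⟨1, -1 ^ 2, rfl⟩).c ≠ 0 := by
    change (1 : F)⁻¹ * (-1 ^ 2) ≠ 0
    simp
  exact typ_C (model (wodd m F) hG ⟨_, hp⟩) (AmbT.of_amb (amb_O_of_two _ h2) p) hp (by omega)

end Odd

section

variable {G : Type*} [Group G] [Finite G] [IsSimpleGroup G] {p : ℕ}

theorem bad_of_A (hp : p.Prime) {n : ℕ} (hn : 3 ≤ n) (h : HasRGDT p (cA n) G) : Bad G := by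
  refine bad_of_rgdt hp h (i := ⟨0, by omega⟩) (j := ⟨1, by omega⟩) (k := ⟨2, by omega⟩) ?_ ?_ ?_ ?_
  · intro h; have := congrArg Fin.val h; simp at this
  · intro h; have := congrArg Fin.val h; simp at this
  · intro h; have := congrArg Fin.val h; simp at this
  · change LieRecognition.CoxClass.mA 0 1 ≠ 2
    unfold LieRecognition.CoxClass.mA
    norm_num

theorem bad_of_B (hp : p.Prime) {n : ℕ} (hn : 3 ≤ n) (h : HasRGDT p (CoxeterMatrix.B n) G) : Bad G := by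
  refine bad_of_rgdt hp h (i := ⟨0, by omega⟩) (j := ⟨1, by omega⟩) (k := ⟨2, by omega⟩) ?_ ?_ ?_ ?_
  · intro h; have := congrArg Fin.val h; simp at this
  · intro h; have := congrArg Fin.val h; simp at this
  · intro h; have := congrArg Fin.val h; simp at this
  · intro h2
    unfold CoxeterMatrix.B at h2
    simp only [Matrix.of_apply] at h2
    split_ifs at h2 <;> simp_all [Fin.ext_iff]

theorem bad_of_D (hp : p.Prime) {n : ℕ} (hn : 1 ≤ n) (h : HasRGDT p (Nodes.TypeD.M n) G) : Bad G := by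
  rcases Nat.eq_or_lt_of_le hn with rfl | hn
  · refine bad_of_rgdt hp h (i := 0) (j := 1) (k := 2) (by decide) (by decide) (by decide) ?_
    decide
  · refine bad_of_rgdt hp h (i := ⟨0, by omega⟩) (j := ⟨1, by omega⟩) (k := ⟨2, by omega⟩) ?_ ?_ ?_ ?_
    · intro h; have := congrArg Fin.val h; simp at this
    · intro h; have := congrArg Fin.val h; simp at this
    · intro h; have := congrArg Fin.val h; simp at this
    · have hA : Nodes.TypeD.Adj (n := n) ⟨0, by omega⟩ ⟨1, by omega⟩ :=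
        Or.inl ⟨by change 1 < n + 1; omega, rfl⟩
      rw [Nodes.TypeD.M_apply, if_neg (by intro h; have := congrArg Fin.val h; simp at this),
        if_pos (Or.inl hA)]
      norm_num

theorem bad_of_F4 (hp : p.Prime) (h : HasRGDT p CoxeterMatrix.F₄ G) : Bad G :=
  bad_of_rgdt hp h (i := 0) (j := 1) (k := 2) (by decide) (by decide) (by decide) (by decide)

theorem bad_of_E6 (hp : p.Prime) (h : HasRGDT p CoxeterMatrix.E₆ G) : Bad G :=
  bad_of_rgdt hp h (i := 0) (j := 2) (k := 1) (by decide) (by decide) (by decide) (by decide)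

theorem bad_of_E7 (hp : p.Prime) (h : HasRGDT p CoxeterMatrix.E₇ G) : Bad G :=
  bad_of_rgdt hp h (i := 0) (j := 2) (k := 1) (by decide) (by decide) (by decide) (by decide)

theorem bad_of_E8 (hp : p.Prime) (h : HasRGDT p CoxeterMatrix.E₈ G) : Bad G :=
  bad_of_rgdt hp h (i := 0) (j := 2) (k := 1) (by decide) (by decide) (by decide) (by decide)

end

/-- the families of Lie type of rank at most two -/
def SmallRank (G : Type*) [Group G] : Prop :=
  (∃ (F : Type) (_ : Field F) (_ : Fintype F), 4 ≤ Fintype.card F ∧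
    Nonempty (G ≃* Matrix.ProjectiveSpecialLinearGroup (Fin 2) F)) ∨
  (∃ (F : Type) (_ : Field F) (_ : Fintype F), Nonempty (G ≃* Matrix.ProjectiveSpecialLinearGroup (Fin 3) F)) ∨
  (∃ (F : Type) (_ : Field F) (_ : Fintype F), 3 ≤ Fintype.card F ∧ Nonempty (G ≃* PSp 2 F)) ∨
  (∃ (F : Type) (_ : Field F) (_ : Fintype F) (q : ℕ), Fintype.card F = q ^ 2 ∧ q ≠ 2 ∧ Nonempty (G ≃* PSU 3 F q)) ∨
  (∃ (F : Type) (_ : Field F) (_ : Fintype F) (q : ℕ), Fintype.card F = q ^ 2 ∧ Nonempty (G ≃* PSU 4 F q)) ∨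
  (∃ (F : Type) (_ : Field F) (_ : Fintype F) (q : ℕ), Fintype.card F = q ^ 2 ∧ Nonempty (G ≃* PSU 5 F q)) ∨
  Lie.IsoChevG2 G ∨ Lie.Iso3D4 G ∨ Lie.IsoSuzuki G ∨ Lie.IsoRee G ∨ Lie.Iso2F4 G ∨ Lie.IsoTits G

theorem exists_char (F : Type) [Field F] [Finite F] : ∃ r : ℕ, r.Prime ∧ CharP F r := by
  obtain ⟨r, hr⟩ := CharP.exists F
  exact ⟨r, CharP.char_is_prime F r, hr⟩

/-- **A known simple group is alternating, sporadic, of Lie type of rank at most two, or `Bad`.** -/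
theorem cases_of_known {G : Type*} [Group G] [Finite G] [IsSimpleGroup G] (hG : IsKnownSimple' G)
    (hab : ¬ IsPrimeCyclic G) : Bad G ∨ IsAlternating G ∨ SmallRank G ∨ IsSporadicGroup G := by
  rcases hG with h | h | h | h | h | h | h | h | h | h
  · exact absurd h hab
  · exact Or.inr (Or.inl h)
  · -- PSL
    obtain ⟨F, i1, i2, n, hn, h23, ⟨e⟩⟩ := h
    obtain ⟨r, hr, hc⟩ := exists_char F
    have : Fact r.Prime := ⟨hr⟩
    rcases Nat.lt_or_ge n 4 with h4 | h4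
    · refine Or.inr (Or.inr (Or.inl ?_))
      interval_cases n
      · refine Or.inl ⟨F, i1, i2, ?_, ⟨e⟩⟩
        exact h23 rfl
      · exact Or.inr (Or.inl ⟨F, i1, i2, ⟨e⟩⟩)
    · obtain ⟨n, rfl⟩ : ∃ k, n = k + 1 := ⟨n - 1, by omega⟩
      exact Or.inl (bad_of_A hr (by omega) ((typ_PSL n).of_equiv e.symm))
  · -- PSp
    obtain ⟨F, i1, i2, m, hm, h2, ⟨e⟩⟩ := h
    obtain ⟨r, hr, hc⟩ := exists_char F
    have : Fact r.Prime := ⟨hr⟩
    rcases Nat.eq_or_lt_of_le hm with rfl | h3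
    · exact Or.inr (Or.inr (Or.inl (Or.inr (Or.inr (Or.inl ⟨F, i1, i2, h2 rfl, ⟨e⟩⟩)))))
    · exact Or.inl (bad_of_B hr (by omega) ((typ_PSp (by omega)).of_equiv e.symm))
  · -- PSU
    obtain ⟨F, i1, i2, n, q, hF, hn, hq, ⟨e⟩⟩ := h
    obtain ⟨r, hr, hc⟩ := exists_char F
    have : Fact r.Prime := ⟨hr⟩
    rcases Nat.lt_or_ge n 6 with h6 | h6
    · refine Or.inr (Or.inr (Or.inl ?_))
      interval_cases n
      · exact Or.inr (Or.inr (Or.inr (Or.inl ⟨F, i1, i2, q, hF, fun h => hq ⟨rfl, h⟩, ⟨e⟩⟩)))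
      · exact Or.inr (Or.inr (Or.inr (Or.inr (Or.inl ⟨F, i1, i2, q, hF, ⟨e⟩⟩))))
      · exact Or.inr (Or.inr (Or.inr (Or.inr (Or.inr (Or.inl ⟨F, i1, i2, q, hF, ⟨e⟩⟩)))))
    · obtain ⟨m, hm, h⟩ := typ_PSU (p := r) hF hn
      exact Or.inl (bad_of_B hr (by omega) (h.of_equiv e.symm))
  · -- odd orthogonal
    obtain ⟨F, i1, i2, m, hm, hodd, ⟨e⟩⟩ := h
    obtain ⟨r, hr, hc⟩ := exists_char F
    have : Fact r.Prime := ⟨hr⟩
    have h2 : (2 : F) ≠ 0 := by
      intro h2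
      have h3 : CharP F 2 := CharTwo.of_one_ne_zero_of_two_eq_zero one_ne_zero h2
      obtain ⟨k, -, hk⟩ := FiniteField.card F 2
      rw [hk] at hodd
      exact absurd hodd (by
        rw [Nat.not_odd_iff_even]
        exact (even_two).pow_of_ne_zero k.ne_zero)
    exact Or.inl (bad_of_B hr hm ((typ_PO_odd h2 (by omega)).of_equiv e.symm))
  · obtain ⟨F, i1, i2, m, hm, ⟨e⟩⟩ := h
    obtain ⟨r, hr, hc⟩ := exists_char F
    have : Fact r.Prime := ⟨hr⟩
    obtain ⟨n, rfl⟩ : ∃ n, m = n + 3 := ⟨m - 3, by omega⟩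
    exact Or.inl (bad_of_D hr (by omega) ((typ_PO_plus n).of_equiv e.symm))
  · obtain ⟨F, i1, i2, m, a, b, hm, hab, ⟨e⟩⟩ := h
    obtain ⟨r, hr, hc⟩ := exists_char F
    have : Fact r.Prime := ⟨hr⟩
    exact Or.inl (bad_of_B hr (by omega) ((typ_PO_minus hab (by omega)).of_equiv e.symm))
  · -- exceptional
    have key : ∀ {D : Lie.ChevalleyDatum} {l : ℕ} {M : CoxeterMatrix (Fin l)}, IsType D l M →
        (∀ r : ℕ, r.Prime → HasRGDT r M G → Bad G) → D.IsGroupOver G → Bad G := by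
      intro D l M hp hb h
      obtain ⟨F, i1, i2, ⟨e⟩⟩ := h
      obtain ⟨r, hr, hc⟩ := exists_char F
      exact hb r hr ((typ_group hp F r).of_equiv e.symm)
    rcases h with h | h | h | h | h | h | h | h | h | h | h
    · exact Or.inr (Or.inr (Or.inl (Or.inr (Or.inr (Or.inr (Or.inr (Or.inr (Or.inr (Or.inl h)))))))))
    · exact Or.inl (key (by simp [IsType, typeList]) (fun r hr hG => bad_of_F4 hr hG) h)
    · exact Or.inl (key (by simp [IsType, typeList]) (fun r hr hG => bad_of_E6 hr hG) h)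
    · exact Or.inl (key (by simp [IsType, typeList]) (fun r hr hG => bad_of_E7 hr hG) h)
    · exact Or.inl (key (by simp [IsType, typeList]) (fun r hr hG => bad_of_E8 hr hG) h)
    · obtain ⟨K, i1, i2, q, hq, hK, ⟨e⟩⟩ := h
      obtain ⟨r, hr, hc⟩ := exists_char K
      exact Or.inl (bad_of_F4 hr ((typ_twE6 hq hK r).of_equiv e.symm))
    · exact Or.inr (Or.inr (Or.inl (Or.inr (Or.inr (Or.inr (Or.inr (Or.inr (Or.inr (Or.inr (Or.inl h))))))))))
    · exact Or.inr (Or.inr (Or.inl (Or.inr (Or.inr (Or.inr (Or.inr (Or.inr (Or.inr (Or.inr (Or.inr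
        (Or.inl h)))))))))))
    · exact Or.inr (Or.inr (Or.inl (Or.inr (Or.inr (Or.inr (Or.inr (Or.inr (Or.inr (Or.inr (Or.inr
        (Or.inr (Or.inl h))))))))))))
    · exact Or.inr (Or.inr (Or.inl (Or.inr (Or.inr (Or.inr (Or.inr (Or.inr (Or.inr (Or.inr (Or.inr
        (Or.inr (Or.inr (Or.inl h)))))))))))))
    · exact Or.inr (Or.inr (Or.inl (Or.inr (Or.inr (Or.inr (Or.inr (Or.inr (Or.inr (Or.inr (Or.inr
        (Or.inr (Or.inr (Or.inr h)))))))))))))
  · exact Or.inr (Or.inr (Or.inr h))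

end Cfsg.Agent.H938
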