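import Cfsg.Agent.H938.PSLTwo
import Cfsg.Agent.S0253
import Cfsg.Agent.S0254

/-!
# Alternating groups
-/

set_option autoImplicit false

namespace Cfsg.Agent.H938

open Cfsg Equiv

/-- `A_k → A_n`, `k ≤ n` -/
theorem exists_alt_hom {k n : ℕ} (hn : k ≤ n) :
    ∃ f : alternatingGroup (Fin k) →* alternatingGroup (Fin n), Function.Injective f := by
  classical
  let i : Fin k ↪ Fin n := (Fin.castLEEmb hn)
  refine ⟨{ toFun := fun g => ⟨(g : Perm (Fin k)).viaFintypeEmbedding i, ?_⟩, map_one' := ?_, map_mul' := ?_ }, ?_⟩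
  · rw [Equiv.Perm.mem_alternatingGroup, Equiv.Perm.viaFintypeEmbedding_sign]
    exact Equiv.Perm.mem_alternatingGroup.1 g.2
  · refine Subtype.ext ?_
    ext x
    by_cases hx : x ∈ Set.range i
    · obtain ⟨y, rfl⟩ := hx
      simp
    · simp [Equiv.Perm.viaFintypeEmbedding_apply_notMem_range _ _ hx]
  · intro g g'
    refine Subtype.ext ?_
    ext x
    by_cases hx : x ∈ Set.range i
    · obtain ⟨y, rfl⟩ := hx
      simp
    · simp [Equiv.Perm.viaFintypeEmbedding_apply_notMem_range _ _ hx]
  · intro g g' hgg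
    refine Subtype.ext ?_
    ext x
    have h1 := congrArg (fun z : alternatingGroup (Fin n) => (z : Perm (Fin n)) (i x)) hgg
    simp only [MonoidHom.coe_mk, OneHom.coe_mk, Equiv.Perm.viaFintypeEmbedding_apply_image] at h1
    exact congrArg Fin.val (i.injective h1)

theorem card_alt {n : ℕ} (hn : 2 ≤ n) : 2 * Nat.card (alternatingGroup (Fin n)) = n.factorial := by
  have : Nontrivial (Fin n) := Fin.nontrivial_iff_two_le.2 hn
  rw [Nat.card_eq_fintype_card, two_mul_card_alternatingGroup, Fintype.card_perm, Fintype.card_fin]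

theorem range_ne_top {k n : ℕ} (hk : 2 ≤ k) (hn : k < n) {f : alternatingGroup (Fin k) →* alternatingGroup (Fin n)}
    (hf : Function.Injective f) : f.range ≠ ⊤ := by
  intro htop
  have h1 : Nat.card (alternatingGroup (Fin k)) = Nat.card (alternatingGroup (Fin n)) := by
    rw [Nat.card_congr (MonoidHom.ofInjective hf).toEquiv, htop]
    exact Subgroup.card_top
  have h2 := card_alt hk
  have h3 := card_alt (show 2 ≤ n by omega)
  have h4 : k.factorial < n.factorial := Nat.factorial_lt_of_lt (by omega) hn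
  omega

/-- `A₅ < A₆ < A_n` -/
theorem bad_alt {n : ℕ} (hn : 7 ≤ n) : Bad (alternatingGroup (Fin n)) := by
  obtain ⟨f, hf⟩ := exists_alt_hom (show 5 ≤ 6 by norm_num)
  obtain ⟨g, hg⟩ := exists_alt_hom (show 6 ≤ n by omega)
  refine bad_of_hom g hg (range_ne_top (by norm_num) (by omega) hg) (L := f.range) ?_
    (range_ne_top (by norm_num) (by norm_num) hf)
  intro hs
  exact Cfsg.Agent.ClassicalGeometry.PSL2Solvable.not_isSolvable_alternating_five
    (Group.isSolvable_of_isSolvable_injective
    (f := (MonoidHom.ofInjective hf).toMonoidHom) (MonoidHom.ofInjective hf).injective)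

/-- an alternating group is `PSL₂(5)`, `PSL₂(9)` or `Bad` -/
theorem alt_list {G : Type*} [Group G] (hG : IsAlternating G) : Bad G ∨
    (∃ (F : Type) (_ : Field F) (_ : Fintype F), Fintype.card F = 5 ∧ Nonempty (G ≃* PL F)) ∨
    (∃ (F : Type) (_ : Field F) (_ : Fintype F), Fintype.card F = 9 ∧ Nonempty (G ≃* PL F)) := by
  obtain ⟨n, hn, ⟨e⟩⟩ := hG
  rcases Nat.lt_or_ge n 7 with h7 | h7
  · right
    interval_cases n
    · left
      have : Fact (Nat.Prime 5) := ⟨Nat.prime_five⟩
      have i1 : Fintype (GaloisField 5 1) := Fintype.ofFinite _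
      have e1 : Fintype.card (GaloisField 5 1) = 5 := by
        rw [Fintype.card_eq_nat_card]
        exact (GaloisField.card 5 _ (by omega)).trans (by norm_num)
      obtain ⟨e'⟩ := Cfsg.Agent.S0253.result e1
      exact ⟨GaloisField 5 1, _, i1, e1, ⟨e.trans e'.symm⟩⟩
    · right
      have : Fact (Nat.Prime 3) := ⟨Nat.prime_three⟩
      have i1 : Fintype (GaloisField 3 2) := Fintype.ofFinite _
      have e1 : Fintype.card (GaloisField 3 2) = 9 := by
        rw [Fintype.card_eq_nat_card]
        exact (GaloisField.card 3 _ (by omega)).trans (by norm_num)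
      obtain ⟨e'⟩ := Cfsg.Agent.S0254.result e1
      exact ⟨GaloisField 3 2, _, i1, e1, ⟨e.trans e'.symm⟩⟩
  · exact Or.inl ((bad_alt h7).of_equiv e.symm)

end Cfsg.Agent.H938
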