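import Mathlib
import Cfsg.Prelude.Def_CaseTheorems

/-!
# Chains of insoluble subgroups

`Bad G` : there are subgroups `L < K < G` with `L` insoluble.
* `not_bad` : a group all of whose insoluble proper subgroups `K` have `K / Φ(K)` minimal simple is not `Bad`;
* `bad_of_normalizes` : a simple group with an insoluble subgroup normalising a soluble subgroup it does not contain;
* `bad_of_commute` : a simple group with an insoluble subgroup whose centralizer is not abelian;
* `Bad.of_equiv`, `Bad.of_injective`.
-/

set_option autoImplicit false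

namespace Cfsg.Agent.H938

open Subgroup

/-- There are subgroups `L < K < G` with `L` insoluble. -/
def Bad (G : Type*) [Group G] : Prop :=
  ∃ L K : Subgroup G, L < K ∧ K ≠ ⊤ ∧ ¬ Group.IsSolvable L

variable {G : Type*} [Group G]

theorem isSolvable_of_le {H K : Subgroup G} (h : H ≤ K) (hK : Group.IsSolvable K) : Group.IsSolvable H :=
  Group.isSolvable_of_isSolvable_injective (Subgroup.inclusion_injective h)

theorem isSolvable_top_iff : Group.IsSolvable (⊤ : Subgroup G) ↔ Group.IsSolvable G :=
  ⟨fun h => Group.isSolvable_of_surjective (f := (⊤ : Subgroup G).subtype)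
    (fun x => ⟨⟨x, Subgroup.mem_top x⟩, rfl⟩), fun h => inferInstance⟩

theorem isSolvable_map {H : Type*} [Group H] (f : G →* H) {K : Subgroup G} (hK : Group.IsSolvable K) :
    Group.IsSolvable (K.map f) :=
  Group.isSolvable_of_surjective (f := f.subgroupMap K) (f.subgroupMap_surjective K)

/-- If the kernel of `f` on `K` is soluble and the image is soluble, so is `K`. -/
theorem isSolvable_of_map {H : Type*} [Group H] (f : G →* H) {K : Subgroup G} (hk : Group.IsSolvable f.ker)
    (hK : Group.IsSolvable (K.map f)) : Group.IsSolvable K := by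
  have h1 : Group.IsSolvable (f.ker.subgroupOf K) :=
    Group.isSolvable_of_isSolvable_injective (f := (K.subtype.comp (f.ker.subgroupOf K).subtype).codRestrict f.ker
      (fun x => x.2)) (by
        intro x y hxy
        have := congrArg Subtype.val hxy
        exact Subtype.ext (Subtype.ext this))
  refine Group.isSolvable_of_ker_le_range (f.ker.subgroupOf K).subtype (f.subgroupMap K) ?_
  intro x hx
  rw [Subgroup.range_subtype, Subgroup.mem_subgroupOf, MonoidHom.mem_ker]
  exact congrArg Subtype.val (MonoidHom.mem_ker.1 hx)

/-- A group whose insoluble proper subgroups are minimal simple modulo the Frattini subgroup is not `Bad`. -/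
theorem not_bad [Finite G]
    (hmin : ∀ K : Subgroup G, K ≠ ⊤ → ¬ Group.IsSolvable K → Cfsg.IsMinimalSimple (K ⧸ frattini K)) :
    ¬ Bad G := by
  rintro ⟨L, K, hLK, hK, hL⟩
  have hKs : ¬ Group.IsSolvable K := fun h => hL (isSolvable_of_le hLK.le h)
  obtain ⟨-, -, h3⟩ := hmin K hK hKs
  set L' : Subgroup K := L.subgroupOf K with hL'
  have hne : L' ≠ ⊤ := by
    intro h
    rw [hL', Subgroup.subgroupOf_eq_top] at h
    exact hLK.not_ge h
  have h4 : L'.map (QuotientGroup.mk' (frattini K)) ≠ ⊤ := by
    intro h
    apply hne
    apply frattini_nongenerating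
    have h5 : (L'.map (QuotientGroup.mk' (frattini K))).comap (QuotientGroup.mk' (frattini K)) = ⊤ := by
      rw [h, Subgroup.comap_top]
    rwa [Subgroup.comap_map_eq, QuotientGroup.ker_mk'] at h5
  have h5 : Group.IsSolvable L' := by
    refine isSolvable_of_map (QuotientGroup.mk' (frattini K)) ?_ (h3 _ h4)
    rw [QuotientGroup.ker_mk']
    have : Group.IsNilpotent (frattini K) := frattini_nilpotent
    infer_instance
  apply hL
  have h6 : Group.IsSolvable (L'.map K.subtype) := isSolvable_map _ h5
  rwa [hL', Subgroup.map_subgroupOf_eq_of_le hLK.le] at h6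

/-- An insoluble subgroup that normalises a soluble subgroup `N ≠ 1` it does not contain. -/
theorem bad_of_normalizes [IsSimpleGroup G] {L N : Subgroup G} (hL : ¬ Group.IsSolvable L)
    (hN : Group.IsSolvable N) (hn : L ≤ normalizer (N : Set G)) (hNL : ¬ N ≤ L) : Bad G := by
  have hne : N ≠ ⊥ := by
    rintro rfl
    exact hNL bot_le
  refine ⟨L, L ⊔ N, ?_, ?_, hL⟩
  · refine lt_of_le_of_ne le_sup_left fun h => hNL ?_
    rw [h]
    exact le_sup_right
  · intro htop
    have h1 : N.Normal := by
      rw [← normalizer_eq_top_iff, eq_top_iff, ← htop]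
      exact sup_le hn le_normalizer
    rcases h1.eq_bot_or_eq_top with h2 | h2
    · exact hne h2
    · rw [h2, isSolvable_top_iff] at hN
      exact hL inferInstance

/-- An insoluble subgroup commuting with an element it does not contain. -/
theorem bad_of_commute_one [IsSimpleGroup G] {L : Subgroup G} (hL : ¬ Group.IsSolvable L) {x : G}
    (hx : ∀ l ∈ L, x * l = l * x) (hxL : x ∉ L) : Bad G := by
  refine bad_of_normalizes (N := zpowers x) hL ?_ ?_ ?_
  · exact Group.isSolvable_of_comm fun a b => by
      obtain ⟨_, i, rfl⟩ := a
      obtain ⟨_, j, rfl⟩ := b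
      exact Subtype.ext ((Commute.refl x).zpow_zpow i j).eq
  · intro l hl
    have h1 : l ∈ centralizer ((zpowers x : Subgroup G) : Set G) := by
      rw [mem_centralizer_iff]
      rintro _ ⟨k, rfl⟩
      exact (Commute.zpow_left (hx l hl) k).eq
    exact centralizer_le_normalizer _ h1
  · intro h
    exact hxL (h (mem_zpowers x))

/-- An insoluble subgroup with non-abelian centralizer. -/
theorem bad_of_commute [IsSimpleGroup G] {L : Subgroup G} (hL : ¬ Group.IsSolvable L) {x y : G}
    (hx : ∀ l ∈ L, x * l = l * x) (hy : ∀ l ∈ L, y * l = l * y) (hxy : x * y ≠ y * x) : Bad G := by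
  by_cases h : x ∈ L
  · exact absurd (hy x h).symm hxy
  · exact bad_of_commute_one hL hx h

theorem Bad.of_equiv {H : Type*} [Group H] (e : G ≃* H) (h : Bad G) : Bad H := by
  obtain ⟨L, K, h1, h2, h3⟩ := h
  refine ⟨L.map e.toMonoidHom, K.map e.toMonoidHom, ?_, ?_, ?_⟩
  · exact (Subgroup.map_lt_map_iff_of_injective e.injective).2 h1
  · intro h
    apply h2
    apply Subgroup.map_injective (f := e.toMonoidHom) e.injective
    rw [h, Subgroup.map_top_of_surjective _ e.surjective]
  · intro h
    exact h3 (Group.isSolvable_of_isSolvable_injective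
      (f := (L.equivMapOfInjective e.toMonoidHom e.injective).toMonoidHom)
      (L.equivMapOfInjective e.toMonoidHom e.injective).injective)

/-- A proper subgroup containing an image of an insoluble proper subgroup. -/
theorem bad_of_hom {H : Type*} [Group H] (f : H →* G) (hf : Function.Injective f) (hne : f.range ≠ ⊤)
    {L : Subgroup H} (hL : ¬ Group.IsSolvable L) (hLt : L ≠ ⊤) : Bad G := by
  refine ⟨L.map f, f.range, ?_, hne, ?_⟩
  · rw [MonoidHom.range_eq_map]
    exact (Subgroup.map_lt_map_iff_of_injective hf).2 (lt_top_iff_ne_top.2 hLt)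
  · intro h
    exact hL (Group.isSolvable_of_isSolvable_injective (f := (L.equivMapOfInjective f hf).toMonoidHom)
      (L.equivMapOfInjective f hf).injective)

/-- A proper insoluble subgroup that is not perfect. -/
theorem bad_of_not_perfect {K : Subgroup G} (hK : K ≠ ⊤) (hs : ¬ Group.IsSolvable K) (hp : ⁅K, K⁆ ≠ K) :
    Bad G := by
  refine ⟨⁅K, K⁆, K, lt_of_le_of_ne ?_ hp, hK, ?_⟩
  · rw [commutator_le]
    intro a ha b hb
    rw [commutatorElement_def]
    exact mul_mem (mul_mem (mul_mem ha hb) (inv_mem ha)) (inv_mem hb)
  · intro h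
    apply hs
    have h1 : (_root_.commutator K).map K.subtype = ⁅K, K⁆ := by
      rw [_root_.commutator_def, map_commutator, ← MonoidHom.range_eq_map, Subgroup.range_subtype]
    have h2 : Group.IsSolvable (_root_.commutator K) := by
      rw [← h1] at h
      exact Group.isSolvable_of_isSolvable_injective
        (f := ((_root_.commutator K).equivMapOfInjective K.subtype K.subtype_injective).toMonoidHom)
        ((_root_.commutator K).equivMapOfInjective K.subtype K.subtype_injective).injective
    have h3 : Group.IsSolvable (K ⧸ _root_.commutator K) :=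
      Group.isSolvable_of_comm fun a b => by
        have := (inferInstance : CommGroup (Abelianization K)).mul_comm a b
        exact this
    exact (Group.isSolvable_iff_subgroup_quotient (_root_.commutator K)).2 ⟨h2, h3⟩

/-- A proper insoluble subgroup that is not its own normaliser. -/
theorem bad_of_mem_normalizer [IsSimpleGroup G] {L : Subgroup G} (hL : ¬ Group.IsSolvable L) (hLt : L ≠ ⊤) {x : G}
    (hx : x ∈ normalizer (L : Set G)) (hxL : x ∉ L) : Bad G := by
  refine ⟨L, normalizer (L : Set G), lt_of_le_of_ne le_normalizer fun h => hxL (h ▸ hx), ?_, hL⟩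
  intro h
  rw [normalizer_eq_top_iff] at h
  rcases h.eq_bot_or_eq_top with h1 | h1
  · apply hL
    rw [h1]
    infer_instance
  · exact hLt h1

/-- A group with a minimal simple model has no insoluble proper subgroup. -/
theorem false_of_minimal {H : Type*} [Group H] (e : G ≃* H) (hH : Cfsg.IsMinimalSimple H) {K : Subgroup G}
    (hK : K ≠ ⊤) (hs : ¬ Group.IsSolvable K) : False := by
  apply hs
  have h1 : K.map e.toMonoidHom ≠ ⊤ := by
    intro h
    apply hK
    apply Subgroup.map_injective (f := e.toMonoidHom) e.injective
    rw [h, Subgroup.map_top_of_surjective _ e.surjective]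
  have h2 := hH.2.2 _ h1
  exact Group.isSolvable_of_isSolvable_injective
    (f := (K.equivMapOfInjective e.toMonoidHom e.injective).toMonoidHom)
    (K.equivMapOfInjective e.toMonoidHom e.injective).injective

end Cfsg.Agent.H938
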