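import Cfsg.Agent.H938.Rgd2
import Cfsg.Agent.Nodes.RGDClass

/-!
# Instances of `HasX`: `PSL_{n+1}(F)`
-/

set_option autoImplicit false
set_option linter.unusedSectionVars false

namespace Cfsg.Agent.H938

open Cfsg Matrix
open CoxeterSystem Cfsg.Agent.ChevalleyStructure.CoxeterGeom Cfsg.Agent.Tits.Roots Cfsg.Agent.Tits.Core
  Cfsg.Agent.Nodes.Comb Cfsg.Agent.Nodes.Reps Cfsg.Agent.Nodes.BNOf Cfsg.Agent.FixBN
  Cfsg.Agent.Nodes.RGDLib Cfsg.Agent.Nodes.RGDTypeA Cfsg.Agent.LieRecognition.BNCox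
open Cfsg.Agent.TitsThree.KSideA (tv tv_of_ne tv_add tv_zero tv_neg tv_comm tv_commute diag2n_eq)

/-- the root homomorphism of `PSL` -/
noncomputable def psx (n : ℕ) (F : Type*) [Field F] (i : Fin n) :
    Multiplicative F →* ProjectiveSpecialLinearGroup (Fin (n + 1)) F where
  toFun a := pr n F (tv i.castSucc i.succ a.toAdd)
  map_one' := by
    change pr n F (tv i.castSucc i.succ (0 : F)) = 1
    rw [tv_zero, map_one]
  map_mul' a b := by
    change pr n F (tv i.castSucc i.succ (a.toAdd + b.toAdd)) = _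
    rw [← map_mul, tv_add]

theorem psx_injective (n : ℕ) (F : Type*) [Field F] (i : Fin n) : Function.Injective (psx n F i) := by
  rw [injective_iff_map_eq_one]
  intro a ha
  have h1 : tv i.castSucc i.succ a.toAdd ∈ (pr n F).ker := ha
  rw [ker_pr, tv_of_ne (Fin.castSucc_lt_succ).ne] at h1
  have h2 := (Matrix.SpecialLinearGroup.transvection_mem_center_iff _ _).1 h1
  exact h2

theorem hasX_PSL {F : Type*} [Field F] [Finite F] {n : ℕ} (hn : 0 < n) {p : ℕ} [Fact p.Prime] [CharP F p]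
    (hF : ¬ (Nat.card F).Prime) :
    HasX p (cA n) (Matrix.ProjectiveSpecialLinearGroup (Fin (n + 1)) F) :=
  have : Finite (cA n).Group := Nodes.RootsA.finite_W (cA n).toCoxeterSystem (Nodes.RootsA.isCartan n)
  ⟨Nodes.RootsA.AA n, Nodes.RootsA.isCartan n, _, _, _, this, Nodes.RGDTypeA.rgd_psl _ _,
    Nodes.RGDTypeA.G1_psl_eq_top _ _, ⟨0, hn⟩, (psx n F ⟨0, hn⟩).range, by
      rintro _ ⟨a, rfl⟩
      refine ⟨tv (Fin.castSucc ⟨0, hn⟩) (Fin.succ ⟨0, hn⟩) a.toAdd, ?_, rfl⟩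
      rw [X_sr]
      exact tv_mem_XX _ _ _, by
      rintro _ ⟨a, rfl⟩ _ ⟨b, rfl⟩
      rw [← map_mul, ← map_mul, mul_comm], not_isCyclic_range _ (psx_injective n F _) hF⟩

end Cfsg.Agent.H938
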