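import Cfsg.Agent.H938.Rgd2
import Cfsg.Agent.Mrg.Omega.ML.Ex.Typ.List

/-!
# Instances of `HasX`: Witt frames, the groups `PSp` and `PSU`
-/

set_option autoImplicit false
set_option linter.unusedSectionVars false

namespace Cfsg.Agent.H938

open Cfsg
open CoxeterSystem Cfsg.Agent.ChevalleyStructure.CoxeterGeom Cfsg.Agent.Tits.Roots Cfsg.Agent.Tits.Core
  Cfsg.Agent.Nodes.Comb Cfsg.Agent.Nodes.Reps Cfsg.Agent.Nodes.BNOf Cfsg.Agent.FixBN
  Cfsg.Agent.Nodes.RGDLib Cfsg.Agent.Nodes.TypeC Cfsg.Agent.Omega.ML.Ex.Typ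
open Cfsg.Agent.Nodes Cfsg.Agent.Nodes.WittAll Cfsg.Agent.Nodes.WittU Cfsg.Agent.Nodes.WittInst
  Cfsg.Agent.Nodes.WittRoot Cfsg.Agent.Nodes.WittRGD
  Cfsg.Agent.TitsThree Cfsg.Agent.TitsThree.Siegel Cfsg.Agent.TitsThree.SiegelGen
  Cfsg.Agent.TitsThree.WittFrame Cfsg.Agent.TitsThree.WBridge Cfsg.Agent.TitsThree.WittWeyl
  Cfsg.Agent.TitsThree.FrameCN Cfsg.Agent.TitsThree.LineBorel

variable {F : Type*} [Field F] {V : Type*} [AddCommGroup V] [Module F V] {H : HForm F V} {n : ℕ}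
  {Fr : Frame H (Fin n)} {K : Type*} [Group K] (M : Model Fr K)

/-- the root homomorphism of a model -/
noncomputable def mx (x y : Fin n × Bool) : Multiplicative F →* K where
  toFun a := M.X x y a.toAdd
  map_one' := by
    change M.φ ⟨Fr.X x y 0, M.hX _ _ _⟩ = 1
    rw [← map_one M.φ]
    exact congrArg _ (Subtype.ext (Fr.X_zero x y))
  map_mul' a b := by
    change M.φ ⟨Fr.X x y (a.toAdd + b.toAdd), M.hX _ _ _⟩ = M.φ _ * M.φ _
    rw [← map_mul]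
    exact congrArg _ (Subtype.ext (Fr.X_add x y _ _))

theorem mx_injective {x y : Fin n × Bool} (h : x.1 ≠ y.1) : Function.Injective (mx M x y) := by
  rw [injective_iff_map_eq_one]
  intro t ht
  obtain ⟨a, ha⟩ := M.ker (Fr.b (neg y)) _ ht
  have h1 : Fr.b (neg y) + t.toAdd • Fr.b x = a • Fr.b (neg y) := by
    rw [← TitsThree.WittWeyl.X_apply_neg Fr h]; exact ha
  -- pairing with `b (neg x)`
  have h2 := congrArg (fun v => H.h v (Fr.b (neg x))) h1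
  have e1 : H.h (Fr.b (neg y)) (Fr.b (neg x)) = 0 := Fr.hb_of_ne (x := neg y) (y := neg x) (fun h' => h h'.symm)
  simp only [H.add_left, H.smul_left, e1, Fr.hb_self_neg, mul_zero, zero_add] at h2
  rcases mul_eq_zero.1 h2 with h3 | h3
  · exact h3
  · exact absurd h3 (Fr.η_ne (neg x))

theorem hasX_C {p : ℕ} (hA : AmbT Fr p M.I) [Finite V] [Fact p.Prime] [CharP F p] {p0 : Fr.Adm} (hp0 : p0.c ≠ 0)
    (hn : 1 < n) [Finite F] (hF : ¬ (Nat.card F).Prime) : HasX p (CoxeterMatrix.B n) K :=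
  ⟨Nodes.TypeC.A n, Nodes.TypeC.isCartan n, _, _, _, Nodes.TypeC.finite_W (CoxeterMatrix.B n).toCoxeterSystem,
    rgdC_model M hA hp0 _, WittModel.G1_eq_top _ (by omega) _, ⟨0, by omega⟩,
    (mx M (⟨0, by omega⟩, true) (⟨1, by omega⟩, false)).range, by
      rintro _ ⟨a, rfl⟩
      refine ⟨⟨Fr.X (⟨0, by omega⟩, true) (⟨1, by omega⟩, false) a.toAdd, M.hX _ _ _⟩, ?_, rfl⟩
      change Fr.X (⟨0, by omega⟩, true) (⟨1, by omega⟩, false) a.toAdd ∈ rg Fr (sr ⟨0, by omega⟩)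
      have hnx : nx (⟨0, by omega⟩ : Fin n) = (⟨1, by omega⟩, false) := by
        unfold nx; rw [dif_pos (by simpa using hn)]
      rw [rg_sr, hnx, PG_ne]
      · exact ⟨_, rfl⟩
      · simp [Fin.ext_iff], by
      rintro _ ⟨a, rfl⟩ _ ⟨b, rfl⟩
      rw [← map_mul, ← map_mul, mul_comm], not_isCyclic_range _ (mx_injective M (by simp [Fin.ext_iff])) hF⟩

theorem hasX_PSU {F : Type*} [Field F] [Fintype F] {q N : ℕ} (hF : Fintype.card F = q ^ 2) (hN : 4 ≤ N) {p : ℕ}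
    [Fact p.Prime] [CharP F p] : ∃ m, (N = 2 * m ∨ N = 2 * m + 1) ∧ HasX p (CoxeterMatrix.B m) (PSU N F q) := by
  obtain ⟨m, hm⟩ : ∃ m, N = 2 * m ∨ N = 2 * m + 1 := ⟨N / 2, by omega⟩
  obtain ⟨W, -⟩ := exists_wframe hF hm
  obtain ⟨p0, hp0, -⟩ := exists_adm hF W
  refine ⟨m, hm, hasX_C (KInstU.model hF (by omega) W) (AmbT.of_amb (amb_U hF W) p) hp0 (by omega) ?_⟩
  rw [Nat.card_eq_fintype_card, hF]
  exact Nat.Prime.not_prime_pow le_rfl

theorem hasX_PSp {F : Type*} [Field F] [Finite F] {m : ℕ} (hm : 2 ≤ m) {p : ℕ}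
    [Fact p.Prime] [CharP F p] (hF : ¬ (Nat.card F).Prime) : HasX p (CoxeterMatrix.B m) (PSp m F) :=
  hasX_C (KInstSp.model m F) (AmbT.of_amb amb_Sp p) (p0 := SpIdent.adm 1) one_ne_zero (by omega) hF

end Cfsg.Agent.H938
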