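import Cfsg.Agent.H938.Rgd2
import Cfsg.Agent.Mrg.Omega.ML.Ex.Typ.List

/-!
# Instances of `HasX`: the Chevalley groups
-/

set_option autoImplicit false
set_option linter.unusedSectionVars false

namespace Cfsg.Agent.H938

open Cfsg Cfsg.Lie
open CoxeterSystem Cfsg.Agent.ChevalleyStructure.CoxeterGeom Cfsg.Agent.Tits.Roots Cfsg.Agent.Tits.Core
  Cfsg.Agent.Nodes.Comb Cfsg.Agent.Nodes.Reps Cfsg.Agent.Nodes.BNOf Cfsg.Agent.FixBN
  Cfsg.Agent.Nodes.RGDLib Cfsg.Agent.Nodes.RGDChev Cfsg.Agent.Omega.ML.Ex.Typ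
  Cfsg.Agent.ChevalleyStructure.Elts

/-- the root homomorphism of a Chevalley group -/
def cx {D : ChevalleyDatum} (hD : InList D) (K : Type*) [Field K] (r : ℕ) :
    Multiplicative K →* ↥(D.group K) where
  toFun t := ⟨xG hD r t.toAdd, xG_mem_group hD r _⟩
  map_one' := Subtype.ext (xG_zero hD r)
  map_mul' a b := Subtype.ext (xG_add (F := K) hD r (Multiplicative.toAdd a) (Multiplicative.toAdd b)).symm

theorem cx_injective {D : ChevalleyDatum} (hD : InList D) (K : Type*) [Field K] {r : ℕ} (hr : r < D.nroots) :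
    Function.Injective (cx hD K r) := by
  intro a b h
  have h1 := xG_injective (F := K) hD hr (congrArg Subtype.val h)
  exact Multiplicative.toAdd.injective h1

theorem hasX_group {D : ChevalleyDatum} {l : ℕ} {M : CoxeterMatrix (Fin l)} (hp : IsType D l M) (K : Type*)
    [Field K] [Finite K] (p : ℕ) [CharP K p] (hl : 0 < l) (hK : ¬ (Nat.card K).Prime)
    (hr : D.simple ((⟨0, hl⟩ : Fin l) : ℕ) < D.nroots) : HasX p M ↥(D.group K) := by
  have : Fact p.Prime := ⟨CharP.char_is_prime K p⟩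
  refine ⟨_, hp.isCartan, _, _, _, finite_W hp M.toCoxeterSystem,
    rgd (K := K) hp M.toCoxeterSystem p, G1_eq_top hp _, ⟨0, hl⟩,
    (cx hp.inList K (D.simple ((⟨0, hl⟩ : Fin l) : ℕ))).range, ?_, ?_, not_isCyclic_range _ (cx_injective _ _ hr) hK⟩
  · rintro _ ⟨a, rfl⟩
    rw [Subgroup.mem_subgroupOf, XV_sr hp]
    exact xG_mem_rootSubgroup hp.inList _ _
  · rintro _ ⟨a, rfl⟩ _ ⟨b, rfl⟩
    rw [← map_mul, ← map_mul, mul_comm]

theorem hasX_G2 (K : Type*) [Field K] [Finite K] (p : ℕ) [CharP K p] (hK : ¬ (Nat.card K).Prime) :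
    HasX p CoxeterMatrix.G₂ ↥(chevG2.group K) :=
  hasX_group (by simp [IsType, typeList]) K p (by norm_num) hK (by decide)

end Cfsg.Agent.H938
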