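import Cfsg.Agent.H938.Rgd2
import Cfsg.Agent.Mrg.Omega.ML.Ex.Typ.List
import Cfsg.Agent.Schreier.ThreeD4

/-!
# Instances of `HasX`: the groups `³D₄(q)`
-/

set_option autoImplicit false
set_option linter.unusedSectionVars false

namespace Cfsg.Agent.H938

open Cfsg Cfsg.Lie
open CoxeterSystem Cfsg.Agent.ChevalleyStructure.CoxeterGeom Cfsg.Agent.Tits.Roots Cfsg.Agent.Tits.Core
  Cfsg.Agent.Nodes.Comb Cfsg.Agent.Nodes.Reps Cfsg.Agent.Nodes.BNOf Cfsg.Agent.FixBN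
  Cfsg.Agent.Nodes.RGDLib Cfsg.Agent.Nodes.RGDChev Cfsg.Agent.Omega.ML.Ex.Typ
open Cfsg.Agent.ChevalleyStructure

/-- the short root homomorphism of `³D₄(q)` -/
noncomputable def dx {K : Type*} [Field K] {q : ℕ} {φ : K →+* K} (hφ : ∀ x, φ x = x ^ q) : Multiplicative K →* ↥(twistedD4 K q) where
  toFun t := ⟨D4Fixed.X φ t.toAdd, D4Fixed.X_mem hφ _⟩
  map_one' := Subtype.ext Schreier.ThreeD4.X_zero
  map_mul' a b := Subtype.ext (Schreier.ThreeD4.X_add (K := K) (Multiplicative.toAdd a) (Multiplicative.toAdd b))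

theorem hasX_twD4 {K : Type*} [Field K] [Fintype K] {q : ℕ} (hq : IsPrimePow q) (hK : Fintype.card K = q ^ 3)
    (p : ℕ) [CharP K p] : HasX p CoxeterMatrix.G₂ ↥(Lie.twistedD4 K q) := by
  have : Fact p.Prime := ⟨CharP.char_is_prime K p⟩
  obtain ⟨φ, hφ⟩ := ChevalleyStructure.D4Fixed.exists_frob hq hK
  refine ⟨_, Nodes.RGDTwD4.isCartan, _, _, _,
    Nodes.RGDFold.finite_W (hp := Nodes.RGDTwD4.hp) CoxeterMatrix.G₂.toCoxeterSystem Nodes.RGDTwD4.isCartan Nodes.RGDTwD4.foldData,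
    Nodes.RGDTwD4.rgd _ hK hφ p, Nodes.RGDTwD4.G1_eq_top _ hK hφ, 1, (dx hφ).range, ?_, ?_,
    not_isCyclic_range _ (fun a b h => ?_) ?_⟩
  · rintro _ ⟨a, rfl⟩
    change D4Fixed.X φ a.toAdd ∈ Nodes.RGDFold.R chevD4 Nodes.RGDTwD4.hp K Nodes.RGDTwD4.J (D4Fixed.sig φ) (sr 1)
    rw [Nodes.RGDTwD4.R1]
    exact ⟨D4Twisted.X_mem_RS _, D4Fixed.twisted_le_fix hK hφ (D4Fixed.X_mem hφ _)⟩
  · rintro _ ⟨a, rfl⟩ _ ⟨b, rfl⟩
    rw [← map_mul, ← map_mul, mul_comm]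
  · exact Multiplicative.toAdd.injective (Schreier.ThreeD4.X_inj (congrArg Subtype.val h))
  · rw [Nat.card_eq_fintype_card, hK]
    exact Nat.Prime.not_prime_pow (by norm_num)

end Cfsg.Agent.H938
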