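import Cfsg.Agent.H938.Suz
import Cfsg.Agent.S0243

/-!
# Groups of order 168 and 5616: all proper subgroups are soluble
-/

set_option autoImplicit false
set_option linter.unusedSectionVars false

namespace Cfsg.Agent.H938

open Cfsg

/-- the orders of the minimal simple groups dividing `5616` -/
theorem card_of_minimal {S : Type*} [Group S] [Finite S] (hS : Cfsg.IsMinimalSimple S) {N : ℕ}
    (hN : N = 168 ∨ N = 5616) (hd : Nat.card S ∣ N) : Nat.card S = N := by
  have hle : Nat.card S ≤ 5616 := (Nat.le_of_dvd (by omega) hd).trans (by omega)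
  rcases Cfsg.Agent.S0488.result hS with ⟨p, hp, K, _, _, hK, ⟨e⟩⟩ | ⟨p, hp, hp2, K, _, _, hK, ⟨e⟩⟩ |
    ⟨p, hp, hp5, K, _, _, hK, ⟨e⟩⟩ | ⟨K, _, _, hK, ⟨e⟩⟩ | ⟨-, p, hp, hc⟩
  · have h := Cfsg.Agent.ClassicalGeometry.PSL2Basic.card_PSL2_gcd (F := K)
    rw [← Nat.card_congr e.toEquiv, hK] at h
    have hp6 : p < 5 := by
      by_contra hp6
      have h1 : 2 ^ 5 ≤ 2 ^ p := Nat.pow_le_pow_right (by norm_num) (by omega)
      have h2 : Nat.gcd 2 (2 ^ p - 1) ≤ 2 := Nat.gcd_le_left _ (by norm_num)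
      have h3 : 2 ^ 5 * ((2 ^ 5) ^ 2 - 1) ≤ 2 ^ p * ((2 ^ p) ^ 2 - 1) :=
        Nat.mul_le_mul h1 (Nat.sub_le_sub_right (Nat.pow_le_pow_left h1 2) 1)
      rw [← h] at h3
      have h4 := Nat.mul_le_mul hle h2
      omega
    have h2 := hp.two_le
    interval_cases p
    · have h5 : Nat.card S = 60 := by
        norm_num at h; omega
      rw [h5] at hd
      rcases hN with rfl | rfl <;> omega
    · have h5 : Nat.card S = 504 := by
        norm_num at h; omega
      rw [h5] at hd
      rcases hN with rfl | rfl <;> omega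
    · exact absurd hp (by norm_num)
  · have h := Cfsg.Agent.ClassicalGeometry.PSL2Basic.card_PSL2_gcd (F := K)
    rw [← Nat.card_congr e.toEquiv, hK] at h
    exfalso
    have hp3 : 3 ≤ p := by
      have := hp.two_le
      omega
    have h1 : 3 ^ 3 ≤ 3 ^ p := Nat.pow_le_pow_right (by norm_num) hp3
    have h2 : Nat.gcd 2 (3 ^ p - 1) ≤ 2 := Nat.gcd_le_left _ (by norm_num)
    have h3 : 3 ^ 3 * ((3 ^ 3) ^ 2 - 1) ≤ 3 ^ p * ((3 ^ p) ^ 2 - 1) :=
      Nat.mul_le_mul h1 (Nat.sub_le_sub_right (Nat.pow_le_pow_left h1 2) 1)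
    rw [← h] at h3
    have h4 := Nat.mul_le_mul hle h2
    omega
  · have h := Cfsg.Agent.ClassicalGeometry.PSL2Basic.card_PSL2_gcd (F := K)
    rw [← Nat.card_congr e.toEquiv, hK] at h
    have hp6 : p < 23 := by
      by_contra hp6
      have h1 : 23 ≤ p := by omega
      have h2 : Nat.gcd 2 (p - 1) ≤ 2 := Nat.gcd_le_left _ (by norm_num)
      have h3 : 23 * (23 ^ 2 - 1) ≤ p * (p ^ 2 - 1) :=
        Nat.mul_le_mul h1 (Nat.sub_le_sub_right (Nat.pow_le_pow_left h1 2) 1)
      rw [← h] at h3
      have h4 := Nat.mul_le_mul hle h2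
      omega
    have hpo : Nat.gcd 2 (p - 1) = 2 := by
      have h1 := hp.odd_of_ne_two (by omega)
      obtain ⟨k, hk⟩ := h1
      rw [hk, Nat.add_sub_cancel]
      exact Nat.gcd_eq_left (Dvd.intro _ rfl)
    rw [hpo] at h
    have h2 : 5 ≤ p := by omega
    interval_cases p <;> try omega
    all_goals
      norm_num at h
      first
      | (have h5 : Nat.card S = 60 := by omega
         rw [h5] at hd
         rcases hN with rfl | rfl <;> omega)
      | (have h5 : Nat.card S = 168 := by omega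
         rw [h5] at hd ⊢
         rcases hN with rfl | rfl <;> omega)
      | (have h5 : Nat.card S = 1092 := by omega
         rw [h5] at hd
         rcases hN with rfl | rfl <;> omega)
      | (have h5 : Nat.card S = 2448 := by omega
         rw [h5] at hd
         rcases hN with rfl | rfl <;> omega)
      | (exact absurd hp (by norm_num))
  · have h := Cfsg.Agent.S0243.result (F := K) (q := 3) hK 3 (by norm_num)
    rw [← Nat.card_congr e.toEquiv] at h
    simp only [Fin.prod_univ_three] at h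
    have h5 : Nat.card S = 5616 := by
      norm_num at h
      omega
    rw [h5] at hd ⊢
    rcases hN with rfl | rfl
    · omega
    · rfl
  · exfalso
    rcases Nat.lt_or_ge p 3 with h3 | h3
    · obtain rfl : p = 2 := by have := hp.two_le; omega
      norm_num at hc
      rw [hc] at hd
      rcases hN with rfl | rfl <;> omega
    · have h1 : 2 ^ 3 ≤ 2 ^ p := Nat.pow_le_pow_right (by norm_num) h3
      have h4 : (2 ^ 3) ^ 2 * ((2 ^ 3) ^ 2 + 1) * (2 ^ 3 - 1) ≤ (2 ^ p) ^ 2 * ((2 ^ p) ^ 2 + 1) * (2 ^ p - 1) := by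
        have h5 : (2 ^ 3) ^ 2 ≤ (2 ^ p) ^ 2 := Nat.pow_le_pow_left h1 2
        exact Nat.mul_le_mul (Nat.mul_le_mul h5 (by omega)) (by omega)
      omega

/-- Proper subgroups of a group of order `168` or `5616` are soluble. -/
theorem isSolvable_of_card {G : Type*} [Group G] [Finite G] (hG : Nat.card G = 168 ∨ Nat.card G = 5616)
    {H : Subgroup G} (hH : H ≠ ⊤) : Group.IsSolvable H := by
  by_contra hs
  obtain ⟨H1, N, hN, hmin⟩ := Cfsg.Agent.Classification.ThreePrimes.exists_section hs
  have hdvd : Nat.card (H1 ⧸ N) ∣ Nat.card H :=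
    (Subgroup.card_quotient_dvd_card N).trans (Subgroup.card_subgroup_dvd_card H1)
  have h1 := card_of_minimal hmin hG (hdvd.trans (Subgroup.card_subgroup_dvd_card H))
  apply hH
  apply Subgroup.eq_top_of_card_eq
  apply le_antisymm (Subgroup.card_le_card_group H)
  rw [← h1]
  exact Nat.le_of_dvd Nat.card_pos hdvd

theorem isSolvable_PSL_three {G : Type*} [Group G] [Finite G] {F : Type*} [Field F] [Fintype F]
    (hF : Fintype.card F = 2 ∨ Fintype.card F = 3) (e : G ≃* Matrix.ProjectiveSpecialLinearGroup (Fin 3) F)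
    {H : Subgroup G} (hH : H ≠ ⊤) : Group.IsSolvable H := by
  refine isSolvable_of_card ?_ hH
  rcases hF with hF | hF
  · have h := Cfsg.Agent.S0243.result (F := F) (q := 2) hF 3 (by norm_num)
    rw [← Nat.card_congr e.toEquiv] at h
    simp only [Fin.prod_univ_three] at h
    norm_num at h
    omega
  · have h := Cfsg.Agent.S0243.result (F := F) (q := 3) hF 3 (by norm_num)
    rw [← Nat.card_congr e.toEquiv] at h
    simp only [Fin.prod_univ_three] at h
    norm_num at h
    omega

end Cfsg.Agent.H938
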