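import Cfsg.Agent.H938.Bad
import Cfsg.Agent.S1157
import Cfsg.Agent.ClassicalGeometry.PSL2Solvable

/-!
# The Ree groups: an involution centralises `PSL(2, q)`
-/

set_option autoImplicit false
set_option linter.unusedSectionVars false

namespace Cfsg.Agent.H938

open Subgroup

/-- A simple group with an element whose centralizer is a direct product with an insoluble factor. -/
theorem bad_of_prod {G A B : Type*} [Group G] [Group A] [Group B] [Nontrivial A] [IsSimpleGroup G] {C : Subgroup G}
    (e : C ≃* A × B) (hB : ¬ Group.IsSolvable B) : Bad G := by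
  obtain ⟨a, ha⟩ := exists_ne (1 : A)
  let f : B →* G := C.subtype.comp (e.symm.toMonoidHom.comp (MonoidHom.inr A B))
  have hf : Function.Injective f := by
    intro x y hxy
    have h1 := e.symm.injective (C.subtype_injective hxy)
    exact (Prod.ext_iff.1 h1).2
  refine bad_of_commute_one (L := f.range) (x := (e.symm (a, 1) : C)) ?_ ?_ ?_
  · intro hs
    exact hB (Group.isSolvable_of_isSolvable_injective (f := (MonoidHom.ofInjective hf).toMonoidHom)
      (MonoidHom.ofInjective hf).injective)
  · rintro _ ⟨b, rfl⟩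
    change ((e.symm (a, 1) : C) : G) * ((e.symm (1, b) : C) : G) = ((e.symm (1, b) : C) : G) * ((e.symm (a, 1) : C) : G)
    rw [← Subgroup.coe_mul, ← Subgroup.coe_mul, ← map_mul, ← map_mul, Prod.mk_mul_mk, Prod.mk_mul_mk]
    simp
  · rintro ⟨b, hb⟩
    have h1 : e.symm (1, b) = e.symm (a, 1) := Subtype.ext hb
    have h2 := e.symm.injective h1
    exact ha (Prod.ext_iff.1 h2).1.symm

theorem not_isSolvable_of_simple {H : Type*} [Group H] [IsSimpleGroup H] (h : ¬ IsMulCommutative H) :
    ¬ Group.IsSolvable H := by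
  intro hs
  have h3 := Group.IsSolvable.commutator_lt_top_of_nontrivial H
  have h4 : _root_.commutator H = ⊥ := by
    rcases IsSimpleGroup.eq_bot_or_eq_top_of_normal (_root_.commutator H) inferInstance with h | h
    · exact h
    · exact absurd h h3.ne
  rw [commutator_eq_bot_iff_center_eq_top] at h4
  apply h
  refine ⟨⟨fun a b => ?_⟩⟩
  have : b ∈ center H := by rw [h4]; trivial
  exact mem_center_iff.1 this a

theorem bad_of_ree {G : Type*} [Group G] [IsSimpleGroup G] (h : Cfsg.Lie.IsoRee G) : Bad G := by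
  obtain ⟨K, _, _, m, hm, hK, ⟨e⟩⟩ := h
  have hs : IsSimpleGroup ↥(Cfsg.Lie.twistedG2 K (3 ^ m)) := e.symm.isSimpleGroup
  obtain ⟨a, haH, ha1, ha2⟩ := Cfsg.Agent.S1157.exists_involution hK
  obtain ⟨⟨f⟩, -⟩ := Cfsg.Agent.S1152.result hK a haH ha1 ha2
  have h4 : 4 ≤ Fintype.card K := by
    rw [hK]
    have : 3 ^ 3 ≤ 3 ^ (2 * m + 1) := Nat.pow_le_pow_right (by norm_num) (by omega)
    omega
  exact Bad.of_equiv e.symm (bad_of_prod f (ClassicalGeometry.PSL2Solvable.not_isSolvable_psl K h4))

end Cfsg.Agent.H938
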