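import Cfsg.Agent.H938.Five
import Cfsg.Agent.Omega.TitsIso.TitsSide

/-!
# The Tits group has a subgroup `S_5`
-/

set_option autoImplicit false
set_option linter.unusedSectionVars false

namespace Cfsg.Agent.H938

open Cfsg.Agent.ChevalleyStructure.Tits.Pack Cfsg.Agent.ChevalleyStructure.Tits.Data
  Cfsg.Agent.ChevalleyStructure.Tits.Sat Cfsg.Agent.ChevalleyStructure.Tits.Final
  Cfsg.Agent.ChevalleyStructure.Tits.Mat Cfsg.Agent.ChevalleyStructure.Tits.Order
  Cfsg.Agent.ChevalleyStructure.Tits.Main Cfsg.Agent.Omega.TitsIso.TitsSideRel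
  Cfsg.Agent.Omega.TitsIso.TitsSide

theorem prod_ne_one {l : List (ZMod 8)} {i j : I52} (hij : i ≠ j)
    (h : (evalW (zz l)).testBit (52 * ix j + ix i) = true) : (l.map ZH).prod ≠ 1 := by
  intro e
  have h1 : (((((zz l).map yH).prod : Cfsg.Agent.ChevalleyStructure.Tits.Order.H0)) : GL I52 (ZMod 2)) = 1 := by
    rw [prod_zz, e]; rfl
  rw [coe_list _ (zz_lt l)] at h1
  have h2 : ((((zz l).map yG).prod : GL I52 (ZMod 2)) : Matrix I52 I52 (ZMod 2)) = ((1 : GL I52 (ZMod 2)) : Matrix I52 I52 (ZMod 2)) := by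
    rw [h1]
  rw [coe_word _ (fun k hk => by have := zz_lt l k hk; omega), ← toMat_evalW, Units.val_one] at h2
  have h3 := congrFun (congrFun h2 i) j
  rw [toMat_apply, h, Matrix.one_apply_ne hij] at h3
  exact absurd h3 (by decide)

/-- the word of `d` -/
def dw : List (ZMod 8) := [6, 0, 2, 1, 5, 0, 4]
/-- the word of `d⁻¹` -/
def dw' : List (ZMod 8) := [4, 0, 5, 1, 2, 0, 6]
/-- the word of `a` -/
def aw : List (ZMod 8) := dw ++ dw
/-- the word of `b` -/
def bw : List (ZMod 8) := [6, 4] ++ dw ++ [6, 4] ++ dw'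
/-- the word of `b⁻¹` -/
def bw' : List (ZMod 8) := dw ++ [4, 6] ++ dw' ++ [4, 6]

theorem k1 : chk (zz (aw ++ aw), zz []) = true := by decide +kernel
theorem k2 : chk (zz (bw ++ bw ++ bw), zz []) = true := by decide +kernel
theorem k3 : chk (zz (aw ++ bw ++ aw ++ bw ++ aw ++ bw ++ aw ++ bw ++ aw ++ bw), zz []) = true := by decide +kernel
theorem k4 : chk (zz (dw ++ bw ++ dw'), zz (aw ++ bw ++ aw ++ bw' ++ aw ++ bw)) = true := by decide +kernel
theorem k5 : chk (zz (dw ++ dw'), zz []) = true := by decide +kernel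
theorem k6 : chk (zz (bw ++ bw'), zz []) = true := by decide +kernel

theorem a_ne : (aw.map ZH).prod ≠ 1 :=
  prod_ne_one (i := Sum.inl 1) (j := Sum.inl 0) (by decide) (by decide +kernel)

/-- the words in the derived subgroup -/
noncomputable def zc (l : List (ZMod 8)) : ↥(commutator Cfsg.Agent.ChevalleyStructure.Tits.Order.H0) := (l.map ZC).prod

theorem coe_zc (l : List (ZMod 8)) : ((zc l : ↥(commutator Cfsg.Agent.ChevalleyStructure.Tits.Order.H0)) :
    Cfsg.Agent.ChevalleyStructure.Tits.Order.H0) = (l.map ZH).prod := by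
  unfold zc
  induction l with
  | nil => rfl
  | cons x l ih => rw [List.map_cons, List.prod_cons, List.map_cons, List.prod_cons, Subgroup.coe_mul, ih]; rfl

theorem zc_append (l m : List (ZMod 8)) : zc (l ++ m) = zc l * zc m := by
  unfold zc; rw [List.map_append, List.prod_append]

theorem zc_nil : zc [] = 1 := rfl

theorem zc_rel {l m : List (ZMod 8)} (h : chk (zz l, zz m) = true) : zc l = zc m := by
  apply Subtype.ext
  rw [coe_zc, coe_zc]
  exact rel_zz h

theorem sFive_H0 : SFive ↥(commutator Cfsg.Agent.ChevalleyStructure.Tits.Order.H0) := by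
  have hd : (zc dw)⁻¹ = zc dw' := by
    rw [inv_eq_iff_mul_eq_one, ← zc_append]
    exact zc_rel k5
  have hb : (zc bw)⁻¹ = zc bw' := by
    rw [inv_eq_iff_mul_eq_one, ← zc_append]
    exact zc_rel k6
  refine ⟨zc aw, zc bw, zc dw, ?_, ?_, ?_, ?_, ?_, ?_⟩
  · rw [pow_two, ← zc_append]; exact zc_rel k1
  · rw [pow_succ, pow_two, ← zc_append, ← zc_append]; exact zc_rel k2
  · have h := zc_rel k3
    simp only [zc_append, zc_nil] at h
    rw [← h]
    simp only [pow_succ, pow_zero, one_mul, mul_assoc]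
  · intro h
    apply a_ne
    rw [← coe_zc, h]
    rfl
  · rw [← zc_append]; rfl
  · rw [hd, hb]
    simp only [← zc_append]
    exact zc_rel k4

theorem sFive_of_eq (K : Subgroup (GL I52 (ZMod 2))) (hK : K = Cfsg.Agent.ChevalleyStructure.Tits.Order.H0) :
    SFive ↥(commutator K) := by
  subst hK
  exact sFive_H0

theorem bad_of_tits {G : Type*} [Group G] (h : Cfsg.Lie.IsoTits G) : Bad G := by
  obtain ⟨e⟩ := h
  have hs := facts.1
  have hc := facts.2.2
  have hf : Finite Cfsg.Lie.TitsGroup :=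
    Nat.finite_of_card_ne_zero fun h => absurd (hc.symm.trans h) (by norm_num)
  have h5 : SFive Cfsg.Lie.TitsGroup := sFive_of_eq (Cfsg.Lie.twistedF4 (ZMod 2) 1) T0_eq_H0
  have h6 : Bad Cfsg.Lie.TitsGroup := @bad_of_sFive Cfsg.Lie.TitsGroup _ hf hs h5
  exact @Bad.of_equiv Cfsg.Lie.TitsGroup _ G _ e.symm h6

end Cfsg.Agent.H938
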