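import Cfsg.Agent.H938.Bad
import Cfsg.Agent.Classification.NGroupExclude

/-!
# `PSU(3, q)`, `q ≥ 4` even
-/

set_option autoImplicit false
set_option linter.unusedSectionVars false

namespace Cfsg.Agent.H938

open Cfsg Cfsg.Agent.Classification.NGroupExclude

theorem bad_of_quotient_center {Q G : Type*} [Group Q] [Group G] (hS : IsSimpleGroup (G ⧸ Subgroup.center G))
    (hQ : ¬ Group.IsSolvable Q) (hQ2 : ∀ x : Q, (∀ y, x * y = y * x) → x * x = 1) (f : Q →* G)
    (hf : Function.Injective f) (z : G) (hz : z * z ∉ Subgroup.center G) (hcomm : ∀ x, f x * z = z * f x) :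
    Bad (G ⧸ Subgroup.center G) := by
  set π : G →* G ⧸ Subgroup.center G := QuotientGroup.mk' _ with hπ
  refine bad_of_commute_one (L := (π.comp f).range) (x := π z) ?_ ?_ ?_
  · intro hs
    apply hQ
    have hker : Group.IsSolvable (π.comp f).ker := by
      have hcen : ∀ a b : (π.comp f).ker, a * b = b * a := by
        intro a b
        apply Subtype.ext
        apply hf
        have ha : f a ∈ Subgroup.center G := (QuotientGroup.eq_one_iff (f a)).1 a.2
        change f (a * b) = f (b * a)
        rw [map_mul, map_mul]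
        exact (Subgroup.mem_center_iff.1 ha (f b)).symm
      exact Group.isSolvable_of_comm hcen
    have h1 : Group.IsSolvable ((⊤ : Subgroup Q).map (π.comp f)) := by
      rwa [← MonoidHom.range_eq_map]
    exact isSolvable_top_iff.1 (isSolvable_of_map (π.comp f) hker h1)
  · rintro _ ⟨x, rfl⟩
    change π z * π (f x) = π (f x) * π z
    rw [← map_mul, ← map_mul, hcomm]
  · rintro ⟨x, hx⟩
    have h1 : (f x)⁻¹ * z ∈ Subgroup.center G := by
      have h2 : (QuotientGroup.mk (f x) : G ⧸ Subgroup.center G) = QuotientGroup.mk z := hx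
      exact QuotientGroup.eq.1 h2
    set c := (f x)⁻¹ * z with hc
    have hzc : z = f x * c := by rw [hc]; group
    have h2 : ∀ y, x * y = y * x := by
      intro y
      apply hf
      rw [map_mul, map_mul]
      have h3 := hcomm y
      have h4 := Subgroup.mem_center_iff.1 h1 (f y)
      rw [hzc] at h3
      have h5 : f x * f y * c = f y * f x * c := by
        calc f x * f y * c = f x * (f y * c) := by group
          _ = f x * (c * f y) := by rw [h4]
          _ = f y * (f x * c) := by rw [h3]; group
          _ = _ := by group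
      exact (mul_right_cancel h5)
    have h3 := hQ2 x h2
    apply hz
    have h4 : f x * f x = 1 := by rw [← map_mul, h3, map_one]
    have h5 := Subgroup.mem_center_iff.1 h1 (f x)
    have h6 : z * z = c * c := by
      rw [hzc]
      calc f x * c * (f x * c) = f x * (c * f x) * c := by group
        _ = (f x * f x) * c * c := by rw [← h5]; group
        _ = c * c := by rw [h4]; group
    rw [h6]
    exact mul_mem h1 h1

theorem sq_of_center_sl {F : Type*} [Field F] {x : Matrix.SpecialLinearGroup (Fin 2) F} (hx : ∀ y, x * y = y * x) :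
    x * x = 1 := by
  have h1 : x ∈ Subgroup.center (Matrix.SpecialLinearGroup (Fin 2) F) :=
    Subgroup.mem_center_iff.2 fun y => (hx y).symm
  rw [Matrix.SpecialLinearGroup.mem_center_iff] at h1
  obtain ⟨r, hr, h⟩ := h1
  apply Subtype.ext
  rw [Matrix.SpecialLinearGroup.coe_mul, ← h, ← map_mul, ← pow_two]
  rw [Fintype.card_fin] at hr
  rw [hr, map_one]
  rfl

open Cfsg.Agent in
/-- **`PSU(3, q)`, `q ≥ 4` even.** -/
theorem bad_of_U3 {F : Type*} [Field F] [Fintype F] {q : ℕ} (hF : Fintype.card F = q ^ 2) (h : 4 ≤ q)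
    (hq : Even q) (hS : IsSimpleGroup (PSU 3 F q)) : Bad (PSU 3 F q) := by
  classical
  obtain ⟨l, hl, hl3⟩ := LieExceptional.PSUThreeWitness.exists_lam hF h
  have hl0 : l ≠ 0 := by
    rintro rfl
    rw [zero_pow (Nat.succ_ne_zero q)] at hl
    exact zero_ne_one hl
  -- a field with `q` elements
  obtain ⟨p, hp⟩ := CharP.exists F
  have hpp : p.Prime := (CharP.char_is_prime_or_zero F p).resolve_right
    (CharP.char_ne_zero_of_finite F p)
  have := Fact.mk hpp
  obtain ⟨m, _, hm⟩ := FiniteField.card F p
  rw [hF] at hm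
  have h1 : q ∣ p ^ (m : ℕ) := by rw [← hm]; exact dvd_pow_self q two_ne_zero
  obtain ⟨n, -, hn⟩ := (Nat.dvd_prime_pow hpp).1 h1
  have hn0 : n ≠ 0 := by
    rintro rfl
    rw [pow_zero] at hn
    omega
  have : Fintype (GaloisField p n) := Fintype.ofFinite _
  have hcard : Fintype.card (GaloisField p n) = q := by
    rw [← Nat.card_eq_fintype_card, GaloisField.card p n hn0, hn]
  obtain ⟨e⟩ := S0281.result hF hcard
  have hns : ¬ Group.IsSolvable (SU 2 F q) := by
    intro hs
    refine not_isSolvable_sl (GaloisField p n) (by rw [hcard]; exact h) ?_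
    exact Group.isSolvable_of_surjective (f := e.toMonoidHom) e.surjective
  have hc2 : ∀ x : SU 2 F q, (∀ y, x * y = y * x) → x * x = 1 := by
    intro x hx
    have h2 : e x * e x = 1 := by
      apply sq_of_center_sl
      intro y
      obtain ⟨y, rfl⟩ := e.surjective y
      rw [← map_mul, ← map_mul, hx]
    rw [← map_mul] at h2
    exact (map_eq_one_iff e e.injective).1 h2
  set c : Fˣ := Units.mk0 l hl0 with hc
  have hcq : c ^ (q + 1) = 1 := Units.ext (by simpa [hc] using hl)
  have hmem : dg c ∈ SU 3 F q := by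
    have hnorm : ∀ i : Fin 3, (![(c : F), (c : F), ((c⁻¹ ^ 2 : Fˣ) : F)] i) ^ (q + 1) = 1 := by
      have h2 : ((c⁻¹ ^ 2 : Fˣ) : F) ^ (q + 1) = 1 := by
        rw [← Units.val_pow_eq_pow_val, ← pow_mul, mul_comm, pow_mul, inv_pow, hcq]
        simp
      have h3 : (c : F) ^ (q + 1) = 1 := hl
      intro i
      fin_cases i
      · exact h3
      · exact h3
      · exact h2
    exact (LieClassical.SUBasic.suDiag q ![(c : F), (c : F), ((c⁻¹ ^ 2 : Fˣ) : F)]
      (by rw [← Matrix.det_diagonal]; exact (dg c).2) hnorm).2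
  have hdd : dg c * dg c = dg (c * c) := by
    apply Subtype.ext
    change Matrix.diagonal _ * Matrix.diagonal _ = Matrix.diagonal _
    rw [Matrix.diagonal_mul_diagonal]
    congr 1
    funext i
    fin_cases i
    · simp
    · simp
    · simp; ring
  refine bad_of_quotient_center hS hns hc2 (blkSU q) (blkSU_injective q) ⟨dg c, hmem⟩ ?_ ?_
  · intro hz
    have h3 := (Subgroup.mem_center_iff.1 hz) (cyc q : SU 3 F q)
    have h4 := congrArg Subtype.val h3
    change (cyc q : SU 3 F q).1 * (dg c * dg c) = dg c * dg c * (cyc q : SU 3 F q).1 at h4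
    rw [hdd] at h4
    have h5 := cube_of_comm h4 (cyc_apply q)
    apply hl3
    have h6 : c ^ 3 = 1 := by
      have h7 : c ^ 6 = 1 := by rw [← h5, ← pow_two, ← pow_mul]
      have h8 := orderOf_dvd_of_pow_eq_one h7
      have h9 := orderOf_dvd_of_pow_eq_one hcq
      have h10 : orderOf c ∣ 3 := by
        refine Nat.Coprime.dvd_of_dvd_mul_left (k := orderOf c) (m := 2) (n := 3) ?_ (by simpa using h8)
        have h11 : Odd (q + 1) := hq.add_one
        exact (Odd.of_dvd_nat h11 h9).coprime_two_right
      exact orderOf_dvd_iff_pow_eq_one.1 h10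
    have := congrArg Units.val h6
    simpa [hc] using this
  · intro x
    exact Subtype.ext (blkSL_comm_dg x.1 c)

end Cfsg.Agent.H938
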