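import Cfsg.Agent.H938.Rank
import Cfsg.Agent.H938.PSLTwo
import Cfsg.Agent.H938.Suz
import Cfsg.Agent.H938.Long
import Cfsg.Agent.H938.InstA
import Cfsg.Agent.H938.InstC
import Cfsg.Agent.H938.InstChev
import Cfsg.Agent.H938.InstD4
import Cfsg.Agent.H938.MinSmall
import Cfsg.Agent.H938.TwF
import Cfsg.Agent.H938.Tits
import Cfsg.Agent.H938.Ree
import Cfsg.Agent.H938.UThree
import Cfsg.Agent.H938.GTwoThree
import Cfsg.Agent.S0822
import Cfsg.Agent.OddHalf.LongSL.Mat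
import Cfsg.Agent.OddHalf.LongSL.Exc

/-!
# The groups of Lie type of rank at most two
-/

set_option autoImplicit false
set_option linter.unusedSectionVars false

namespace Cfsg.Agent.H938

open Cfsg Cfsg.Agent.Omega.ML.Ex.Typ

/-- the list -/
def Lst (G : Type*) [Group G] : Prop :=
  (∃ (F : Type) (_ : Field F) (_ : Fintype F) (r s : ℕ), r.Prime ∧ s.Prime ∧ Fintype.card F = 2 ^ (r * s) ∧
      Nonempty (G ≃* Matrix.ProjectiveSpecialLinearGroup (Fin 2) F)) ∨
    (∃ (F : Type) (_ : Field F) (_ : Fintype F) (r s : ℕ), r.Prime ∧ s.Prime ∧ Odd r ∧ Odd s ∧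
      Fintype.card F = 3 ^ (r * s) ∧ Nonempty (G ≃* Matrix.ProjectiveSpecialLinearGroup (Fin 2) F)) ∨
    (∃ (F : Type) (_ : Field F) (_ : Fintype F) (p : ℕ), p.Prime ∧ (p % 5 = 1 ∨ p % 5 = 4) ∧ Fintype.card F = p ∧
      Nonempty (G ≃* Matrix.ProjectiveSpecialLinearGroup (Fin 2) F)) ∨
    (∃ (F : Type) (_ : Field F) (_ : Fintype F) (p r : ℕ), p.Prime ∧ r.Prime ∧ Odd r ∧ (p = 5 ∨ p % 5 = 2 ∨ p % 5 = 3) ∧
      Fintype.card F = p ^ r ∧ Nonempty (G ≃* Matrix.ProjectiveSpecialLinearGroup (Fin 2) F)) ∨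
    (∃ (F : Type) (_ : Field F) (_ : Fintype F), Fintype.card F = 9 ∧ Nonempty (G ≃* Matrix.ProjectiveSpecialLinearGroup (Fin 2) F)) ∨
    (∃ (F : Type) (_ : Field F) (_ : Fintype F), Fintype.card F = 9 ∧ Nonempty (G ≃* Cfsg.PSU 3 F 3)) ∨
    (∃ (F : Type) (_ : Field F) (_ : Fintype F) (r s : ℕ), r.Prime ∧ s.Prime ∧ Odd r ∧ Odd s ∧
      Fintype.card F = 2 ^ (r * s) ∧ Nonempty (G ≃* Cfsg.Lie.Sz F (2 ^ ((r * s + 1) / 2))))

/-- all proper subgroups are soluble -/
def Mn (G : Type*) [Group G] : Prop := ∀ H : Subgroup G, H ≠ ⊤ → Group.IsSolvable H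

theorem Mn.of_equiv {G H : Type*} [Group G] [Group H] (e : G ≃* H) (hH : Mn H) : Mn G := by
  intro K hK
  by_contra hs
  apply hs
  have h1 : K.map e.toMonoidHom ≠ ⊤ := by
    intro h
    apply hK
    apply Subgroup.map_injective (f := e.toMonoidHom) e.injective
    rw [h, Subgroup.map_top_of_surjective _ e.surjective]
  have h2 := hH _ h1
  exact Group.isSolvable_of_isSolvable_injective
    (f := (K.equivMapOfInjective e.toMonoidHom e.injective).toMonoidHom)
    (K.equivMapOfInjective e.toMonoidHom e.injective).injective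

/-- a prime power is not a prime: exponent at least two -/
theorem prime_or_four {F : Type} [Field F] [Fintype F] : (Nat.card F).Prime ∨ ¬ (Nat.card F).Prime := em _

theorem l2_list {G : Type*} [Group G] {F : Type} [Field F] [Fintype F] (h4 : 4 ≤ Fintype.card F)
    (e : G ≃* Matrix.ProjectiveSpecialLinearGroup (Fin 2) F) : Bad G ∨ Mn G ∨ Lst G := by
  rcases psl_two_list h4 with h | h | ⟨r, s, hr, hs, h⟩ | ⟨r, s, hr, hs, hro, hso, h⟩ | ⟨p, hp, hp5, h⟩ |
    ⟨p, r, hp, hr, hro, hp5, h⟩ | h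
  · exact Or.inl (h.of_equiv e.symm)
  · exact Or.inr (Or.inl (Mn.of_equiv e h.2.2))
  · exact Or.inr (Or.inr (Or.inl ⟨F, inferInstance, inferInstance, r, s, hr, hs, h, ⟨e⟩⟩))
  · exact Or.inr (Or.inr (Or.inr (Or.inl ⟨F, inferInstance, inferInstance, r, s, hr, hs, hro, hso, h, ⟨e⟩⟩)))
  · exact Or.inr (Or.inr (Or.inr (Or.inr (Or.inl ⟨F, inferInstance, inferInstance, p, hp, hp5, h, ⟨e⟩⟩))))
  · exact Or.inr (Or.inr (Or.inr (Or.inr (Or.inr (Or.inl
      ⟨F, inferInstance, inferInstance, p, r, hp, hr, hro, hp5, h, ⟨e⟩⟩)))))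
  · exact Or.inr (Or.inr (Or.inr (Or.inr (Or.inr (Or.inr (Or.inl ⟨F, inferInstance, inferInstance, h, ⟨e⟩⟩))))))

theorem odd_of_prime_gt {F : Type} [Field F] [Fintype F] (hp : (Nat.card F).Prime) (h : 3 < Fintype.card F) :
    Odd (Fintype.card F) := by
  rw [Nat.card_eq_fintype_card] at hp
  exact hp.odd_of_ne_two (by omega)

theorem l3_list {G : Type*} [Group G] [Finite G] [IsSimpleGroup G] {F : Type} [Field F] [Fintype F]
    (e : G ≃* Matrix.ProjectiveSpecialLinearGroup (Fin 3) F) : Bad G ∨ Mn G := by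
  have hS : IsSimpleGroup (Matrix.ProjectiveSpecialLinearGroup (Fin 3) F) := e.symm.isSimpleGroup
  have hFin : Finite (Matrix.ProjectiveSpecialLinearGroup (Fin 3) F) := Finite.of_equiv _ e.toEquiv
  obtain ⟨p, hp, hc⟩ := exists_char F
  have : Fact p.Prime := ⟨hp⟩
  by_cases hF : (Nat.card F).Prime
  · rcases Nat.lt_or_ge 3 (Fintype.card F) with h3 | h3
    · exact Or.inl ((bad_of_hasLong h3 (OddHalf.LongSL.Mat.hasLong_psl (odd_of_prime_gt hF h3) le_rfl)).of_equiv e.symm)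
    · right
      have h2 := hF.two_le
      rw [Nat.card_eq_fintype_card] at h2
      exact fun H hH => isSolvable_PSL_three (by omega) e hH
  · exact Or.inl ((bad_of_hasX hp le_rfl (hasX_PSL (n := 2) (by norm_num) hF)).of_equiv e.symm)

theorem s4_list {G : Type*} [Group G] [Finite G] [IsSimpleGroup G] {F : Type} [Field F] [Fintype F]
    (h3 : 3 ≤ Fintype.card F) (e : G ≃* PSp 2 F) : Bad G := by
  have hS : IsSimpleGroup (PSp 2 F) := e.symm.isSimpleGroup
  have hFin : Finite (PSp 2 F) := Finite.of_equiv _ e.toEquiv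
  obtain ⟨p, hp, hc⟩ := exists_char F
  have : Fact p.Prime := ⟨hp⟩
  by_cases hF : (Nat.card F).Prime
  · rcases Nat.eq_or_lt_of_le h3 with h3 | h3
    · -- `PSp₄(3) ≅ PSU₄(2)`
      have hfact : Fact (Nat.Prime 2) := ⟨Nat.prime_two⟩
      have i1 : Fintype (GaloisField 2 2) := Fintype.ofFinite _
      have h4 : Fintype.card (GaloisField 2 2) = 4 := by
        rw [Fintype.card_eq_nat_card]
        exact (GaloisField.card 2 2 (by norm_num)).trans (by norm_num)
      obtain ⟨f⟩ := Cfsg.Agent.S0822.result (F := GaloisField 2 2) (K := F) h4 h3.symm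
      obtain ⟨m, hm, hX⟩ := hasX_PSU (F := GaloisField 2 2) (q := 2) (N := 4) (p := 2) (by rw [h4]; norm_num) le_rfl
      have hS' : IsSimpleGroup (PSU 4 (GaloisField 2 2) 2) := f.isSimpleGroup
      have hFin' : Finite (PSU 4 (GaloisField 2 2) 2) := Finite.of_equiv _ f.symm.toEquiv
      exact ((bad_of_hasX Nat.prime_two (by omega) hX).of_equiv f).of_equiv e.symm
    · exact (bad_of_hasLong h3 (OddHalf.LongSL.Mat.hasLong_psp (odd_of_prime_gt hF h3) le_rfl)).of_equiv e.symm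
  · exact (bad_of_hasX hp le_rfl (hasX_PSp le_rfl hF)).of_equiv e.symm

theorem u45_list {G : Type*} [Group G] [Finite G] [IsSimpleGroup G] {F : Type} [Field F] [Fintype F] {q N : ℕ}
    (hN : 4 ≤ N) (hF : Fintype.card F = q ^ 2) (e : G ≃* PSU N F q) : Bad G := by
  obtain ⟨p, hp, hc⟩ := exists_char F
  have : Fact p.Prime := ⟨hp⟩
  obtain ⟨m, hm, hX⟩ := hasX_PSU (p := p) hF hN
  exact bad_of_hasX hp (by omega) (hX.of_equiv e.symm)

theorem u3_list {G : Type*} [Group G] [Finite G] [IsSimpleGroup G] {F : Type} [Field F] [Fintype F] {q : ℕ}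
    (hF : Fintype.card F = q ^ 2) (hq : q ≠ 2) (e : G ≃* PSU 3 F q) : Bad G ∨ Lst G := by
  have hS : IsSimpleGroup (PSU 3 F q) := e.symm.isSimpleGroup
  have hFin : Finite (PSU 3 F q) := Finite.of_equiv _ e.toEquiv
  have h1 : 1 < q := by
    have := Fintype.one_lt_card (α := F)
    rw [hF] at this
    by_contra hcon
    have : q = 0 ∨ q = 1 := by omega
    rcases this with rfl | rfl <;> simp at *
  rcases Nat.lt_or_ge 3 q with h3 | h3
  · left
    rcases Nat.even_or_odd q with ho | ho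
    · exact (bad_of_U3 hF h3 ho hS).of_equiv e.symm
    · exact (bad_of_hasLong h3 (OddHalf.LongSL.Mat.hasLong_psu hF ho le_rfl)).of_equiv e.symm
  · obtain rfl : q = 3 := by omega
    exact Or.inr (Or.inr (Or.inr (Or.inr (Or.inr (Or.inr (Or.inl ⟨F, inferInstance, inferInstance, hF, ⟨e⟩⟩))))))

theorem g2_list {G : Type*} [Group G] [Finite G] [IsSimpleGroup G] (h : Lie.IsoChevG2 G) : Bad G := by
  obtain ⟨F, _, _, h3, ⟨e⟩⟩ := h
  have hS : IsSimpleGroup ↥(Lie.chevG2.group F) := e.symm.isSimpleGroup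
  have hFin : Finite ↥(Lie.chevG2.group F) := Finite.of_equiv _ e.toEquiv
  obtain ⟨p, hp, hc⟩ := exists_char F
  have : Fact p.Prime := ⟨hp⟩
  by_cases hF : (Nat.card F).Prime
  · rcases Nat.eq_or_lt_of_le h3 with h3 | h3
    · exact (bad_of_G2_three h3.symm hS).of_equiv e.symm
    · exact (bad_of_hasLong h3 (OddHalf.LongSL.Chev.hasLong_G2 F (odd_of_prime_gt hF h3))).of_equiv e.symm
  · exact (bad_of_hasX hp le_rfl (hasX_G2 F p hF)).of_equiv e.symm

theorem d4_list {G : Type*} [Group G] [Finite G] [IsSimpleGroup G] (h : Lie.Iso3D4 G) : Bad G := by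
  obtain ⟨F, _, _, q, hq, hF, ⟨e⟩⟩ := h
  obtain ⟨p, hp, hc⟩ := exists_char F
  exact bad_of_hasX hp le_rfl ((hasX_twD4 hq hF p).of_equiv e.symm)

theorem sz_list {G : Type*} [Group G] (h : Lie.IsoSuzuki G) : Bad G ∨ Mn G ∨ Lst G := by
  obtain ⟨F, _, _, m, hm, hF, ⟨e⟩⟩ := h
  rcases suz_list hm hF with h | h | ⟨r, s, hr, hs, hro, hso, h⟩
  · exact Or.inl (h.of_equiv e.symm)
  · exact Or.inr (Or.inl (Mn.of_equiv e h))
  · refine Or.inr (Or.inr (Or.inr (Or.inr (Or.inr (Or.inr (Or.inr (Or.inr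
      ⟨F, inferInstance, inferInstance, r, s, hr, hs, hro, hso, by rw [hF, h], ⟨?_⟩⟩)))))))
    have h1 : (r * s + 1) / 2 = m + 1 := by omega
    rw [h1]
    exact e

/-- **The groups of Lie type of rank at most two.** -/
theorem lie_list {G : Type*} [Group G] [Finite G] [IsSimpleGroup G] (h : SmallRank G) : Bad G ∨ Mn G ∨ Lst G := by
  rcases h with ⟨F, _, _, h4, ⟨e⟩⟩ | ⟨F, _, _, ⟨e⟩⟩ | ⟨F, _, _, h3, ⟨e⟩⟩ | ⟨F, _, _, q, hF, hq, ⟨e⟩⟩ |
    ⟨F, _, _, q, hF, ⟨e⟩⟩ | ⟨F, _, _, q, hF, ⟨e⟩⟩ | h | h | h | h | h | h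
  · exact l2_list h4 e
  · rcases l3_list e with h | h
    · exact Or.inl h
    · exact Or.inr (Or.inl h)
  · exact Or.inl (s4_list h3 e)
  · rcases u3_list hF hq e with h | h
    · exact Or.inl h
    · exact Or.inr (Or.inr h)
  · exact Or.inl (u45_list le_rfl hF e)
  · exact Or.inl (u45_list (by norm_num) hF e)
  · exact Or.inl (g2_list h)
  · exact Or.inl (d4_list h)
  · exact sz_list h
  · exact Or.inl (bad_of_ree h)
  · exact Or.inl (bad_of_2F4 h)
  · exact Or.inl (bad_of_tits h)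

end Cfsg.Agent.H938
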