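import Cfsg.Agent.LieExceptional.BNPairCore

/-!
# Parabolic subgroups of rank two are insoluble

`not_isSolvable_of_noncomm` : in a group with a (B,N)-pair, a subgroup containing `B` and exactly two distinguished
generators `s`, `t` that do not commute modulo `B` is not soluble.
-/

set_option autoImplicit false

namespace Cfsg.Agent.H938

open Cfsg Subgroup Cfsg.Agent.LieExceptional.BNPairCore

variable {G : Type*} [Group G]

/-- A product `B M` of subgroups with `B` normalising `M`. -/
theorem mem_sup_of_conj {B M : Subgroup G} (h : ∀ b ∈ B, ∀ m ∈ M, b * m * b⁻¹ ∈ M) {x : G} (hx : x ∈ B ⊔ M) :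
    ∃ b ∈ B, ∃ m ∈ M, x = b * m := by
  have h1 : B ⊔ M ≤
      { carrier := {x | ∃ b ∈ B, ∃ m ∈ M, x = b * m}
        one_mem' := ⟨1, one_mem _, 1, one_mem _, by group⟩
        mul_mem' := by
          rintro _ _ ⟨b, hb, m, hm, rfl⟩ ⟨b', hb', m', hm', rfl⟩
          refine ⟨b * b', mul_mem hb hb', (b'⁻¹ * m * b'⁻¹⁻¹) * m', mul_mem (h _ (inv_mem hb') _ hm) hm', by group⟩
        inv_mem' := by
          rintro _ ⟨b, hb, m, hm, rfl⟩
          refine ⟨b⁻¹, inv_mem hb, b * m⁻¹ * b⁻¹, h _ hb _ (inv_mem hm), by group⟩ } := by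
    refine sup_le ?_ ?_
    · intro b hb
      exact ⟨b, hb, 1, one_mem _, by group⟩
    · intro m hm
      exact ⟨1, one_mem _, m, hm, by group⟩
  exact h1 hx

/-- A soluble group `Q ≥ B`, `Q ≠ B`: a normal subgroup `M` of `Q`, not contained in `B`, with `[M, M] ≤ B`. -/
theorem exists_normal_of_solvable {Q B : Subgroup G} (hQ : Group.IsSolvable Q) (hQB : ¬ Q ≤ B) :
    ∃ M : Subgroup G, M ≤ Q ∧ ¬ M ≤ B ∧ (∀ q ∈ Q, ∀ m ∈ M, q * m * q⁻¹ ∈ M) ∧
      ∀ m ∈ M, ∀ m' ∈ M, m * m' * m⁻¹ * m'⁻¹ ∈ B := by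
  classical
  obtain ⟨n, hn⟩ := (Group.isSolvable_def Q).1 hQ
  have hex : ∃ k, (derivedSeries Q k).map Q.subtype ≤ B := ⟨n, by rw [hn, Subgroup.map_bot]; exact bot_le⟩
  have h0 : Nat.find hex ≠ 0 := by
    intro h
    have := Nat.find_spec hex
    rw [h, derivedSeries_zero Q, ← MonoidHom.range_eq_map, Subgroup.range_subtype] at this
    exact hQB this
  obtain ⟨k, hk⟩ := Nat.exists_eq_succ_of_ne_zero h0
  have hk1 := Nat.find_spec hex
  rw [hk] at hk1
  have hk2 : ¬ (derivedSeries Q k).map Q.subtype ≤ B := Nat.find_min hex (by omega)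
  refine ⟨(derivedSeries Q k).map Q.subtype, ?_, hk2, ?_, ?_⟩
  · exact Subgroup.map_subtype_le _
  · rintro q hq _ ⟨m, hm, rfl⟩
    exact ⟨⟨q, hq⟩ * m * ⟨q, hq⟩⁻¹, (derivedSeries_normal (G := Q) k).conj_mem m hm ⟨q, hq⟩, rfl⟩
  · rintro _ ⟨m, hm, rfl⟩ _ ⟨m', hm', rfl⟩
    refine hk1 ⟨m * m' * m⁻¹ * m'⁻¹, ?_, rfl⟩
    rw [derivedSeries_succ]
    exact Subgroup.commutator_mem_commutator hm hm'

variable {P : BNPair G}

/-- **A subgroup containing `B` and exactly two distinguished generators, not commuting modulo `B`, is insoluble.** -/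
theorem not_isSolvable_of_noncomm {Q : Subgroup G} (hBQ : P.B ≤ Q) {s t : G} (hs : s ∈ P.S) (ht : t ∈ P.S)
    (hsQ : s ∈ Q) (htQ : t ∈ Q) (hQS : ∀ r ∈ P.S, r ∈ Q → r = s ∨ r = t) (hst : s * t * s⁻¹ * t⁻¹ ∉ P.B) :
    ¬ Group.IsSolvable Q := by
  intro hsol
  obtain ⟨M, hMQ, hMB, hM1, hM2⟩ := exists_normal_of_solvable hsol (B := P.B) fun h => not_mem_B hs (h hsQ)
  have hsN := mem_N hs
  have htN := mem_N ht
  have hne : s ≠ t := by
    rintro rfl
    apply hst
    rw [mul_inv_cancel_right, mul_inv_cancel]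
    exact one_mem _
  -- not commuting, on the left
  have hrel : (s * t)⁻¹ * (t * s) ∉ P.B := by
    intro h
    apply hst
    have h1 : (s * t) * ((s * t)⁻¹ * (t * s))⁻¹ * (s * t)⁻¹ ∈ P.B := by
      refine conj_mem' (mul_mem hsN htN) (inv_mem h) (inv_mem ?_)
      exact mul_mem (inv_mem (mul_mem hsN htN)) (mul_mem htN hsN)
    have h2 : (s * t) * ((s * t)⁻¹ * (t * s))⁻¹ * (s * t)⁻¹ = s * t * s⁻¹ * t⁻¹ := by group
    rwa [h2] at h1
  have hBM : P.B ≤ P.B ⊔ M := le_sup_left
  have hfac : ∀ {x : G}, x ∈ P.B ⊔ M → ∃ b ∈ P.B, b * x ∈ M := by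
    intro x hx
    obtain ⟨b, hb, m, hm, rfl⟩ := mem_sup_of_conj (fun b hb m hm => hM1 b (hBQ hb) m hm) hx
    exact ⟨b⁻¹, inv_mem hb, by rwa [inv_mul_cancel_left]⟩
  have hone : s ∈ P.B ⊔ M ∨ t ∈ P.B ⊔ M := by
    by_contra hcon
    push Not at hcon
    apply hMB
    have h1 := eq_parabolic hBM
    have h2 : P.S ∩ (P.B ⊔ M : Subgroup G) = ∅ := by
      rw [Set.eq_empty_iff_forall_notMem]
      rintro r ⟨hr, hrM⟩
      rcases hQS r hr ((sup_le hBQ hMQ) hrM) with rfl | rfl
      · exact hcon.1 hrM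
      · exact hcon.2 hrM
    rw [h2] at h1
    have h3 : P.parabolic ∅ = P.B := by
      unfold BNPair.parabolic
      rw [Subgroup.closure_empty, sup_bot_eq]
    rw [h3] at h1
    exact le_sup_right.trans h1.le
  -- both
  have hboth : ¬ (s ∈ P.B ⊔ M ∧ t ∈ P.B ⊔ M) := by
    rintro ⟨h1, h2⟩
    obtain ⟨b, hb, hm⟩ := hfac h1
    obtain ⟨b', hb', hm'⟩ := hfac h2
    have h3 := hM2 _ hm _ hm'
    have e : C P ((b * s) * (b' * t)) = C P ((b' * t) * (b * s)) := by
      have h4 : (b * s) * (b' * t) = ((b * s) * (b' * t) * (b * s)⁻¹ * (b' * t)⁻¹) * ((b' * t) * (b * s)) := by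
        group
      rw [h4]
      exact C_mul_left h3
    have h5 : C P ((b * s) * (b' * t)) = C P (s * t) ∨ C P ((b * s) * (b' * t)) = C P t := by
      have h6 : (b * s) * (b' * t) = b * (s * b' * t) := by group
      rw [h6, C_mul_left hb]
      rcases axiom_left (P := P) hs htN hb' with h | h
      · exact Or.inl (C_eq_of_mem h)
      · exact Or.inr (C_eq_of_mem h)
    have h7 : C P ((b' * t) * (b * s)) = C P (t * s) ∨ C P ((b' * t) * (b * s)) = C P s := by
      have h6 : (b' * t) * (b * s) = b' * (t * b * s) := by group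
      rw [h6, C_mul_left hb']
      rcases axiom_left (P := P) ht hsN hb with h | h
      · exact Or.inl (C_eq_of_mem h)
      · exact Or.inr (C_eq_of_mem h)
    rcases h5 with h5 | h5 <;> rcases h7 with h7 | h7
    · exact hrel (rel_of_C_eq (mul_mem hsN htN) (mul_mem htN hsN) (h5.symm.trans (e.trans h7)))
    · have h8 := rel_of_C_eq (mul_mem hsN htN) hsN (h5.symm.trans (e.trans h7))
      have h9 : (s * t)⁻¹ * s = t⁻¹ := by group
      rw [h9] at h8
      exact not_mem_B ht (by simpa using inv_mem h8)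
    · have h8 := rel_of_C_eq htN (mul_mem htN hsN) (h5.symm.trans (e.trans h7))
      have h9 : t⁻¹ * (t * s) = s := by group
      rw [h9] at h8
      exact not_mem_B hs h8
    · have h8 := rel_of_C_eq htN hsN (h5.symm.trans (e.trans h7))
      exact hne (P.inj t ht s hs h8).symm
  -- exactly one
  have hcl : ∀ {a c : G}, a ∈ P.S → c ∈ P.S → a ∈ P.B ⊔ M → c ∉ P.B ⊔ M → c ∈ Q → a ≠ c →
      (c * a)⁻¹ * (a * c) ∈ P.B := by
    intro a c ha hc haM hcM hcQ hac
    have haN := mem_N ha
    have hcN := mem_N hc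
    obtain ⟨b, hb, hm⟩ := hfac haM
    have h1 : c * (b * a) * c⁻¹ ∈ P.B ⊔ M := Subgroup.mem_sup_right (hM1 c hcQ _ hm)
    have h2 : c * b * a ∈ C P (c * a) := by
      rcases axiom_left (P := P) hc haN hb with h | h
      · exact h
      · exfalso
        have h3 : c * b * a ∈ P.B ⊔ M := mem_of_mem_C' hBM h haM
        apply hcM
        have h4 : c = (c * b * a) * a⁻¹ * b⁻¹ := by group
        rw [h4]
        exact mul_mem (mul_mem h3 (inv_mem haM)) (inv_mem (hBM hb))
    obtain ⟨x, hx, y, hy, h3⟩ := mem_C.1 h2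
    have h4 : c * a * (y * (c * c)⁻¹) * c ∈ P.B ⊔ M := by
      have h5 : c * a * (y * (c * c)⁻¹) * c = x⁻¹ * (c * (b * a) * c⁻¹) := by
        have : c * (b * a) * c⁻¹ = (c * b * a) * c⁻¹ := by group
        rw [this, h3]; group
      rw [h5]
      exact mul_mem (inv_mem (hBM hx)) h1
    have h5 : c * a * c ∈ P.B ⊔ M := by
      rcases axiom_right (P := P) (n := c * a) hc (mul_mem hcN haN) (mul_mem hy (inv_sq_mem hc)) with h | h
      · exact mem_of_mem_C hBM h h4
      · exfalso
        have h6 : c * a ∈ P.B ⊔ M := mem_of_mem_C hBM h h4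
        apply hcM
        have := mul_mem h6 (inv_mem haM)
        rwa [mul_inv_cancel_right] at this
    -- the word `c a c` is not reduced
    have h6 : len P ([c, a, c] : List G).prod < 3 := by
      have hS : ∀ x ∈ ([c, a, c] : List G), x ∈ P.S := by
        intro x hx
        simp only [List.mem_cons, List.not_mem_nil, or_false] at hx
        rcases hx with rfl | rfl | rfl
        · exact hc
        · exact ha
        · exact hc
      have h7 := len_prod_le (P := P) hS
      refine lt_of_le_of_ne h7 fun h8 => hcM ?_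
      refine mem_of_reduced hBM _ hS h8.symm ?_ c (by simp)
      have : ([c, a, c] : List G).prod = c * a * c := by simp [mul_assoc]
      rw [this]
      exact h5
    have h7 : ([c, a, c] : List G).prod = c * ([a, c] : List G).prod := by simp
    rw [h7] at h6
    have hS2 : ∀ x ∈ ([a, c] : List G), x ∈ P.S := by
      intro x hx
      simp only [List.mem_cons, List.not_mem_nil, or_false] at hx
      rcases hx with rfl | rfl
      · exact ha
      · exact hc
    have h8 : len P ([a, c] : List G).prod = 2 := by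
      have h9 := len_prod_le (P := P) hS2
      have h10 : ([a, c] : List G).prod = a * c := by simp
      have h11 := len_mul_left_cases (P := P) ha hcN
      rw [h10] at h9 ⊢
      rw [len_gen hc] at h11
      rcases h11 with h11 | h11
      · omega
      · exfalso
        have h12 : len P (a * c) = 0 := by omega
        rw [len_eq_zero_iff (mul_mem haN hcN)] at h12
        apply hac
        refine P.inj a ha c hc ?_
        have h13 : a⁻¹ * c = (a * a)⁻¹ * (a * c) := by group
        rw [h13]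
        exact mul_mem (inv_sq_mem ha) h12
    have h9 := len_mul_left_ne (P := P) hc (prod_mem_N (P := P) hS2)
    obtain ⟨l₁, a', l₂, h10, h11⟩ := exchange (P := P) hc [a, c] hS2 (by omega)
    rcases l₁ with _ | ⟨z, l₁⟩
    · -- `c ~ a`
      simp only [List.nil_append, List.cons.injEq] at h10
      obtain ⟨rfl, -⟩ := h10
      simp only [List.prod_nil, mul_one, one_mul] at h11
      exact absurd (P.inj c hc a ha h11).symm hac
    · rcases l₁ with _ | ⟨z', l₁⟩
      · simp only [List.cons_append, List.nil_append, List.cons.injEq] at h10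
        obtain ⟨rfl, rfl, -⟩ := h10
        simpa using h11
      · exfalso
        have := congrArg List.length h10
        simp at this
  rcases hone with h1 | h1
  · have h2 : t ∉ P.B ⊔ M := fun h => hboth ⟨h1, h⟩
    exact hrel (rel_symm (hcl hs ht h1 h2 htQ hne))
  · have h2 : s ∉ P.B ⊔ M := fun h => hboth ⟨h, h1⟩
    exact hrel (hcl ht hs h1 h2 hsQ hne.symm)

end Cfsg.Agent.H938
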