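import Cfsg.Agent.H938.Bad
import Cfsg.Agent.H938.ParInsol
import Cfsg.Agent.Nodes.LeviDec
import Cfsg.Agent.LieRecognition.CoxForm
import Cfsg.Agent.Mrg.Omega.ML.Ex.Typ.List

/-!
# Groups with a root group datum of rank at least three

`bad_of_rgdt` : a finite simple group with a root group datum of type `M`, with two non-commuting nodes `i`, `j` and a
further node `k`, has a chain of insoluble proper subgroups (`Bad`).
-/

set_option autoImplicit false
set_option linter.unusedSectionVars false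

namespace Cfsg.Agent.H938

open CoxeterSystem Cfsg.Agent.ChevalleyStructure.CoxeterGeom Cfsg.Agent.Tits.Roots Cfsg.Agent.Tits.Core
  Cfsg.Agent.Tits.Exchange Cfsg.Agent.Nodes.Reps Cfsg.Agent.Nodes.BNOf Cfsg.Agent.Nodes.StabComb
  Cfsg.Agent.Nodes.Bruhat Cfsg.Agent.Nodes.OppDec Cfsg.Agent.Nodes.LeviDec Cfsg.Agent.Omega.ML.Ex.Typ
  Cfsg.Agent.FixBN

section

variable {I W Y : Type*} [Fintype I] [DecidableEq I] [Group W] [Group Y] {M : CoxeterMatrix I}
  {cs : CoxeterSystem M W} {A : I → I → ℤ} {h : IsCartan M A} {p : ℕ} {T : Subgroup Y} {n : I → Y}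
  {X : (I → ℤ) → Subgroup Y}

/-- the simple reflections of `J` represented in `P_J` -/
theorem mem_of_n_mem_PJ [Finite W] (R : RGD cs h p T n X) {J : Set I} {k : I} (hk : n k ∈ PJ cs h T X J) :
    k ∈ J := by
  have h1 : Cell R.nsys cs h X (cs.simple k) (n k) :=
    ⟨1, one_mem _, n k, rp_simple cs R.nsys k, 1, one_mem _, by group⟩
  rw [cell_mem_PJ_iff R h1] at hk
  by_contra hkJ
  have h3 : rep cs h (cs.simple k) (sr k) = -sr k := rep_simple_sr cs h k
  have h4 : sr k ∈ NotJ cs h J := ⟨isRoot_sr cs h k, sr_nonneg k, k, hkJ, by rw [sr_self]; exact one_pos⟩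
  have h5 := NotJ.act hk h4
  rw [h3] at h5
  have h6 := h5.2.1 k
  rw [Pi.neg_apply, sr_self] at h6
  exact absurd h6 (by simp)

/-- representatives of non-commuting reflections do not commute modulo `B` -/
theorem noncomm_n [Finite W] (R : RGD cs h p T n X) {i j : I} (hij : i ≠ j) (hM : M i j ≠ 2) :
    n i * n j * (n i)⁻¹ * (n j)⁻¹ ∉ RGD.B cs h T X := by
  intro h1
  have h2 : Rp cs R.nsys (cs.simple i * cs.simple j * (cs.simple i)⁻¹ * (cs.simple j)⁻¹)
      (n i * n j * (n i)⁻¹ * (n j)⁻¹) :=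
    (((rp_simple cs R.nsys i).mul (rp_simple cs R.nsys j)).mul (rp_simple cs R.nsys i).inv).mul
      (rp_simple cs R.nsys j).inv
  have h3 := R.eq_one_of_mem_B h2 h1
  rw [cs.inv_simple, cs.inv_simple] at h3
  have h4 : (cs.simple i * cs.simple j) ^ 2 = 1 := by rw [pow_two, ← mul_assoc]; exact h3
  have h5 := orderOf_dvd_of_pow_eq_one h4
  rw [Cfsg.Agent.LieRecognition.CoxForm.orderOf_eq] at h5
  have h6 : M i j ≠ 1 := by
    intro h6
    exact M.off_diagonal i j hij h6
  have h7 : M i j ≤ 2 := Nat.le_of_dvd (by norm_num) h5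
  have h8 : M i j ≠ 0 := by
    intro h8
    rw [h8] at h5
    exact absurd h5 (by norm_num)
  omega

/-- the parabolic subgroup is soluble if the Levi subgroup is -/
theorem isSolvable_PJ (R : RGD cs h p T n X) {J : Set I} (hV : Group.IsSolvable (VJ cs h X J))
    (hs : Group.IsSolvable (LJ cs h T X J)) : Group.IsSolvable (PJ cs h T X J) := by
  set P := PJ cs h T X J with hPdef
  set V := VJ cs h X J with hVdef
  have hVP : V ≤ P := VJ_le_PJ
  have hLP : LJ cs h T X J ≤ P := LJ_le_PJ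
  have hn : (V.subgroupOf P).Normal := by
    rw [Subgroup.normal_subgroupOf_iff_le_normalizer hVP]
    exact PJ_le_normalizer_VJ R _
  refine (Group.isSolvable_iff_subgroup_quotient (V.subgroupOf P)).2 ⟨?_, ?_⟩
  · exact Group.isSolvable_of_isSolvable_injective (f := (Subgroup.subgroupOfEquivOfLe hVP).toMonoidHom)
      (Subgroup.subgroupOfEquivOfLe hVP).injective
  · refine Group.isSolvable_of_surjective
      (f := (QuotientGroup.mk' (V.subgroupOf P)).comp (Subgroup.inclusion hLP)) ?_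
    intro x
    obtain ⟨⟨g, hg⟩, rfl⟩ := QuotientGroup.mk'_surjective _ x
    obtain ⟨l, hl, v, hv, rfl⟩ := (mem_PJ R).1 hg
    refine ⟨⟨l, hl⟩, ?_⟩
    rw [MonoidHom.comp_apply]
    refine (QuotientGroup.eq (s := V.subgroupOf P)).2 ?_
    rw [Subgroup.mem_subgroupOf]
    have : (((Subgroup.inclusion hLP ⟨l, hl⟩)⁻¹ * ⟨l * v, hg⟩ : P) : Y) = v := by
      change l⁻¹ * (l * v) = v
      group
    rw [this]
    exact hv

/-- the rank two Levi subgroup of two non-commuting nodes is insoluble -/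
theorem not_isSolvable_LJ [Finite W] [Finite Y] (hp : p.Prime) (R : RGD cs h p T n X)
    (hgen : RGD.B cs h T X ⊔ NN cs R.nsys = ⊤)
    {i j : I} (hij : i ≠ j) (hM : M i j ≠ 2) : ¬ Group.IsSolvable (LJ cs h T X {i, j}) := by
  intro hs
  have : Fact p.Prime := ⟨hp⟩
  have hV : Group.IsSolvable (VJ cs h X {i, j}) := by
    have h1 : IsPGroup p (VJ cs h X {i, j}) := R.isPGroup_Upos.to_le (VJ_le_U _)
    have : Group.IsNilpotent (VJ cs h X {i, j}) := h1.isNilpotent
    infer_instance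
  have hP : Group.IsSolvable (PJ cs h T X {i, j}) := isSolvable_PJ R hV hs
  refine not_isSolvable_of_noncomm (P := R.bnPair hgen) (Q := PJ cs h T X {i, j}) (s := n i) (t := n j)
    (B_le_PJ) ⟨i, rfl⟩ ⟨j, rfl⟩ ?_ ?_ ?_ (noncomm_n R hij hM) hP
  · exact LJ_le_PJ (n_mem_LJ R (by simp))
  · exact LJ_le_PJ (n_mem_LJ R (by simp))
  · rintro _ ⟨k, rfl⟩ hk
    rcases mem_of_n_mem_PJ R hk with h1 | h1
    · exact Or.inl (by rw [h1])
    · exact Or.inr (by rw [h1])

end

/-- **Root group data with two non-commuting nodes and a third node.** -/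
theorem bad_of_rgdt {p l : ℕ} {M : CoxeterMatrix (Fin l)} {G : Type*} [Group G] [Finite G] [IsSimpleGroup G]
    (hp : p.Prime) (hG : HasRGDT p M G) {i j k : Fin l} (hij : i ≠ j) (hki : k ≠ i) (hkj : k ≠ j)
    (hM : M i j ≠ 2) : Bad G := by
  obtain ⟨A, h, T, n, X, hW, R, hX⟩ := hG
  have hgen : RGD.B M.toCoxeterSystem h T X ⊔ NN M.toCoxeterSystem R.nsys = ⊤ := by
    rw [eq_top_iff, ← hX]
    exact Nodes.RGDLib.rgd_G1_le R
  have : Fact p.Prime := ⟨hp⟩
  have hV : Group.IsSolvable (VJ M.toCoxeterSystem h X {i, j}) := by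
    have h1 : IsPGroup p (VJ M.toCoxeterSystem h X {i, j}) := R.isPGroup_Upos.to_le (VJ_le_U _)
    have : Group.IsNilpotent (VJ M.toCoxeterSystem h X {i, j}) := h1.isNilpotent
    infer_instance
  refine bad_of_normalizes (not_isSolvable_LJ hp R hgen hij hM) hV (LJ_le_normalizer_VJ R _) ?_
  intro hle
  have h1 : VJ M.toCoxeterSystem h X {i, j} ≤ ⊥ := by
    rw [← LJ_inf_VJ R {i, j}]
    exact le_inf hle le_rfl
  have h2 : X (sr k) ≤ VJ M.toCoxeterSystem h X {i, j} := by
    refine RGD.le_Sup ⟨isRoot_sr M.toCoxeterSystem h k, sr_nonneg k, k, ?_, by rw [sr_self]; exact one_pos⟩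
    rintro (h3 | h3)
    · exact hki h3
    · exact hkj h3
  exact X_ne_bot R (isRoot_sr M.toCoxeterSystem h k) (le_bot_iff.1 (h2.trans h1))

end Cfsg.Agent.H938
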