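import Cfsg.Agent.H938.SpMathieu
import Cfsg.Agent.Leech.Co0Elts

/-!
# The Conway groups, McL and HS contain `M22`
-/

set_option autoImplicit false

namespace Cfsg.Agent.H938

open Cfsg

/-- the quotient by the centre -/
theorem SFive.quot_center {M : Type*} [Group M] (h : SFive M) : SFive (M ⧸ Subgroup.center M) := by
  obtain ⟨a, b, d, ha, hb, hab, ha1, hd, hdb⟩ := h
  have hn : (QuotientGroup.mk' (Subgroup.center M)) a ≠ 1 := by
    intro h1
    rw [QuotientGroup.mk'_apply, QuotientGroup.eq_one_iff, Subgroup.mem_center_iff] at h1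
    have h2 : Commute a b := (h1 b).symm
    have h3 : (a * b) ^ 6 = 1 := by
      rw [h2.mul_pow, show a ^ 6 = (a ^ 2) ^ 3 by rw [← pow_mul], show b ^ 6 = (b ^ 3) ^ 2 by rw [← pow_mul],
        ha, hb, one_pow, one_pow, one_mul]
    have h4 : a * b = 1 := by
      have : (a * b) ^ 6 = (a * b) ^ 5 * (a * b) := pow_succ _ _
      rw [h3, hab, one_mul] at this
      exact this.symm
    have h5 : a = b⁻¹ := eq_inv_of_mul_eq_one_left h4
    have h6 : a ^ 3 = 1 := by rw [h5, inv_pow, hb, inv_one]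
    apply ha1
    have : a ^ 3 = a ^ 2 * a := pow_succ _ _
    rw [h6, ha, one_mul] at this
    exact this.symm
  refine ⟨QuotientGroup.mk' _ a, QuotientGroup.mk' _ b, QuotientGroup.mk' _ d, ?_, ?_, ?_, hn, ?_, ?_⟩
  · rw [← map_pow, ha, map_one]
  · rw [← map_pow, hb, map_one]
  · rw [← map_mul, ← map_pow, hab, map_one]
  · rw [← map_mul, hd]
  · rw [← map_inv, ← map_mul, ← map_mul, hdb]
    simp only [map_mul, map_inv]

namespace Conway

open Cfsg.Agent.Leech.Co0Elts

/-- the embedding of `M24` into `Co0` -/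
def ph : M24 →* Co0 where
  toFun σ := perm σ.1 σ.2
  map_one' := by
    apply Subtype.ext
    refine Equiv.ext fun v => ?_
    apply Subtype.ext
    rfl
  map_mul' σ τ := by
    apply Subtype.ext
    refine Equiv.ext fun v => ?_
    apply Subtype.ext
    rfl

/-- `8 e_i` -/
def e8 (i : GolayPt) : GolayPt → ℤ := fun p => if p = i then 8 else 0

theorem e8_mem (i : GolayPt) : e8 i ∈ leechLattice := by
  refine AddSubgroup.subset_closure (Spor.mem_leechSet_of_const_mod_four (e8 i) 0 0 ?_ ?_ ?_)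
  · revert i; decide
  · revert i; decide
  · revert i; decide

theorem ph_injective : Function.Injective ph := by
  rw [injective_iff_map_eq_one]
  intro σ hσ
  apply Subtype.ext
  refine Equiv.ext fun i => ?_
  have h1 : (((ph σ : Co0) : Equiv.Perm leechLattice) ⟨e8 i, e8_mem i⟩ : leechLattice) = ⟨e8 i, e8_mem i⟩ := by
    rw [hσ]; rfl
  have h2 := congrFun (congrArg Subtype.val h1) (σ.1 i)
  have h3 : e8 i (σ.1.symm (σ.1 i)) = e8 i (σ.1 i) := h2
  rw [Equiv.symm_apply_apply] at h3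
  by_contra h4
  unfold e8 at h3
  have h5 : ¬ σ.1 i = i := h4
  rw [if_pos rfl, if_neg h5] at h3
  exact absurd h3 (by norm_num)

theorem sFive_Co0 : SFive Co0 := Mathieu.sFive_M24.map ph ph_injective

theorem sFive_Co1 : SFive Spor.Co1 := sFive_Co0.quot_center

/-- the embedding of `M22` into the permutations of the lattice -/
def p22 : Spor.M22 →* Equiv.Perm leechLattice :=
  Co0.subtype.comp (ph.comp (Subgroup.inclusion (inf_le_left.trans inf_le_left : Spor.M22 ≤ M24)))

theorem p22_injective : Function.Injective p22 := fun _ _ h =>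
  Subgroup.inclusion_injective _ (ph_injective (Subtype.ext h))

theorem p22_mem (σ : Spor.M22) : p22 σ ∈ Co0 := (ph _).2

theorem fix_none (σ : Spor.M22) : σ.1.symm none = none := by
  have h : σ.1 none = none := (Subgroup.mem_inf.1 (Subgroup.mem_inf.1 σ.2).1).2
  rw [Equiv.symm_apply_eq, h]

theorem fix_zero (σ : Spor.M22) : σ.1.symm (some 0) = some 0 := by
  have h : σ.1 (some 0) = some 0 := (Subgroup.mem_inf.1 σ.2).2
  rw [Equiv.symm_apply_eq, h]

theorem inv_eq {σ : Spor.M22} {p q : GolayPt} (hq : σ.1.symm q = q) : σ.1.symm p = q ↔ p = q := by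
  constructor
  · intro h
    exact σ.1.symm.injective (h.trans hq.symm)
  · rintro rfl
    exact hq

theorem fix_U (σ : Spor.M22) : p22 σ Spor.leechU = Spor.leechU := by
  apply Subtype.ext
  funext p
  show Spor.vecU (σ.1.symm p) = Spor.vecU p
  unfold Spor.vecU
  simp only [inv_eq (fix_none σ), inv_eq (fix_zero σ)]

theorem fix_V (σ : Spor.M22) : p22 σ Spor.leechV = Spor.leechV := by
  apply Subtype.ext
  funext p
  show Spor.vecV (σ.1.symm p) = Spor.vecV p
  unfold Spor.vecV
  simp only [inv_eq (fix_none σ)]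

theorem fix_U' (σ : Spor.M22) : p22 σ Spor.leechU' = Spor.leechU' := by
  apply Subtype.ext
  funext p
  show Spor.vecU' (σ.1.symm p) = Spor.vecU' p
  unfold Spor.vecU'
  simp only [inv_eq (fix_none σ), inv_eq (fix_zero σ)]

theorem sFive_of_le {K : Subgroup (Equiv.Perm leechLattice)} (h : ∀ σ, p22 σ ∈ K) : SFive K :=
  Mathieu.sFive_M22.map (p22.codRestrict K h) (fun x y hxy => p22_injective
    (congrArg (fun z : K => (z : Equiv.Perm leechLattice)) hxy))

theorem mem_Co3 (σ : Spor.M22) : p22 σ ∈ Spor.Co3 :=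
  Subgroup.mem_inf.2 ⟨p22_mem σ, by rw [MulAction.mem_stabilizer_iff]; exact fix_V σ⟩

theorem sFive_Co2 : SFive Spor.Co2 := sFive_of_le fun σ =>
  Subgroup.mem_inf.2 ⟨p22_mem σ, by rw [MulAction.mem_stabilizer_iff]; exact fix_U σ⟩

theorem sFive_Co3 : SFive Spor.Co3 := sFive_of_le mem_Co3

theorem sFive_McL : SFive Spor.McL := sFive_of_le fun σ =>
  Subgroup.mem_inf.2 ⟨mem_Co3 σ, by rw [MulAction.mem_stabilizer_iff]; exact fix_U σ⟩

theorem sFive_HS : SFive Spor.HS := sFive_of_le fun σ =>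
  Subgroup.mem_inf.2 ⟨mem_Co3 σ, by rw [MulAction.mem_stabilizer_iff]; exact fix_U' σ⟩

end Conway

variable {G : Type*} [Group G] [Finite G] [IsSimpleGroup G]

theorem bad_of_Co1 (h : Spor.IsoCo1 G) : Bad G := by
  obtain ⟨e⟩ := h
  exact bad_of_sFive (Conway.sFive_Co1.of_iso e)

theorem bad_of_Co2 (h : Spor.IsoCo2 G) : Bad G := by
  obtain ⟨e⟩ := h
  exact bad_of_sFive (Conway.sFive_Co2.of_iso e)

theorem bad_of_Co3 (h : Spor.IsoCo3 G) : Bad G := by
  obtain ⟨e⟩ := h
  exact bad_of_sFive (Conway.sFive_Co3.of_iso e)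

theorem bad_of_McL (h : Spor.IsoMcL G) : Bad G := by
  obtain ⟨e⟩ := h
  exact bad_of_sFive (Conway.sFive_McL.of_iso e)

theorem bad_of_HS (h : Spor.IsoHS G) : Bad G := by
  obtain ⟨e⟩ := h
  exact bad_of_sFive (Conway.sFive_HS.of_iso e)

end Cfsg.Agent.H938
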