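import Cfsg.Agent.H938.SpCox

/-!
# `Fi22`, `Fi23`, `Fi24'`, `B` and `M` have subgroups `A_5 < S_5`
-/

set_option autoImplicit false

namespace Cfsg.Agent.H938

open Cfsg Cfsg.Spor

section Presented

variable {α : Type*} [DecidableEq α] {edges : List (α × ℕ × α)} {extra : List (FreeGroup α)}

theorem sFive_of_nodes (p : Fin 4 → α) (hp : ∀ i, p i ∈ coxNodes edges)
    (h2 : ∀ i j : Fin 4, i.val + 1 < j.val → coxLabel edges (p i) (p j) = 2)
    (h3 : ∀ i j : Fin 4, i.val + 1 = j.val → coxLabel edges (p i) (p j) = 3)
    (hne : nd edges extra (p 0) ≠ nd edges extra (p 1)) : SFive (CoxPresented α edges extra) :=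
  sFive_of_cox (fun i => nd edges extra (p i)) (fun i => nd_sq (hp i))
    (fun i j hij => nd_comm (hp i) (hp j) (h2 i j hij)) (fun i j hij => nd_braid (hp i) (hp j) (h3 i j hij)) hne

/-- the twisted nodes `p i * t` -/
theorem sFive_of_nodes_twist (K : Subgroup (CoxPresented α edges extra)) (t : CoxPresented α edges extra)
    (ht : t * t = 1) (p : Fin 4 → α) (hp : ∀ i, p i ∈ coxNodes edges)
    (h2 : ∀ i j : Fin 4, i.val + 1 < j.val → coxLabel edges (p i) (p j) = 2)
    (h3 : ∀ i j : Fin 4, i.val + 1 = j.val → coxLabel edges (p i) (p j) = 3)
    (hc : ∀ i, t * nd edges extra (p i) = nd edges extra (p i) * t)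
    (hK : ∀ i, nd edges extra (p i) * t ∈ K)
    (hne : nd edges extra (p 0) ≠ nd edges extra (p 1)) : SFive K := by
  have key : ∀ i j, nd edges extra (p i) * t * (nd edges extra (p j) * t) =
      nd edges extra (p i) * nd edges extra (p j) := by
    intro i j
    rw [← hc j, mul_assoc, ← mul_assoc t, ht, one_mul]
  refine sFive_of_cox (fun i => (⟨nd edges extra (p i) * t, hK i⟩ : K)) (fun i => ?_) (fun i j hij => ?_)
    (fun i j hij => ?_) ?_
  · apply Subtype.ext
    show nd edges extra (p i) * t * (nd edges extra (p i) * t) = 1
    rw [key, nd_sq (hp i)]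
  · apply Subtype.ext
    show nd edges extra (p i) * t * (nd edges extra (p j) * t) = nd edges extra (p j) * t * (nd edges extra (p i) * t)
    rw [key, key]
    exact nd_comm (hp i) (hp j) (h2 i j hij)
  · apply Subtype.ext
    show nd edges extra (p i) * t * (nd edges extra (p j) * t) * (nd edges extra (p i) * t) =
      nd edges extra (p j) * t * (nd edges extra (p i) * t) * (nd edges extra (p j) * t)
    rw [key, key, ← mul_assoc, ← mul_assoc, nd_braid (hp i) (hp j) (h3 i j hij)]
  · intro h
    apply hne
    have h4 := congrArg (fun z : K => (z : CoxPresented α edges extra)) h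
    exact mul_right_cancel h4

end Presented

theorem sFive_Fi22 (hn : ∃ x y : Fi22, x * y ≠ y * x) : SFive Fi22 := by
  obtain ⟨x, y, hxy⟩ := hn
  refine sFive_of_nodes ![.a, .b, .c, .d] (by decide) (by decide) (by decide) fun h => hxy ?_
  have ab : nd Fi22.edges Fi22.extra .a = nd Fi22.edges Fi22.extra .b := h
  have cb := nd_collapse (z := .c) (by decide) (by decide) (by decide) (by decide) (by decide) ab
  have dc := nd_collapse (z := .d) (by decide) (by decide) (by decide) (by decide) (by decide) cb.symm
  have ed := nd_collapse (z := .e) (by decide) (by decide) (by decide) (by decide) (by decide) dc.symm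
  have hd := nd_collapse (z := .h) (by decide) (by decide) (by decide) (by decide) (by decide) dc.symm
  have fe := nd_collapse (z := .f) (by decide) (by decide) (by decide) (by decide) (by decide) ed.symm
  have gf := nd_collapse (z := .g) (by decide) (by decide) (by decide) (by decide) (by decide) fe.symm
  have ih := nd_collapse (z := .i) (by decide) (by decide) (by decide) (by decide) (by decide) hd.symm
  refine comm_of_all (edges := Fi22.edges) (extra := Fi22.extra) .b (fun x => ?_) x y
  cases x
  · exact ab
  · rfl
  · exact cb
  · exact dc.trans cb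
  · exact ed.trans (dc.trans cb)
  · exact fe.trans (ed.trans (dc.trans cb))
  · exact gf.trans (fe.trans (ed.trans (dc.trans cb)))
  · exact hd.trans (dc.trans cb)
  · exact ih.trans (hd.trans (dc.trans cb))

theorem sFive_Fi23 (hn : ∃ x y : Fi23, x * y ≠ y * x) : SFive Fi23 := by
  obtain ⟨x, y, hxy⟩ := hn
  refine sFive_of_nodes ![.a, .b, .c, .d] (by decide) (by decide) (by decide) fun h => hxy ?_
  have ab : nd Fi23.edges Fi23.extra .a = nd Fi23.edges Fi23.extra .b := h
  have cb := nd_collapse (z := .c) (by decide) (by decide) (by decide) (by decide) (by decide) ab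
  have dc := nd_collapse (z := .d) (by decide) (by decide) (by decide) (by decide) (by decide) cb.symm
  have ed := nd_collapse (z := .e) (by decide) (by decide) (by decide) (by decide) (by decide) dc.symm
  have hd := nd_collapse (z := .h) (by decide) (by decide) (by decide) (by decide) (by decide) dc.symm
  have fe := nd_collapse (z := .f) (by decide) (by decide) (by decide) (by decide) (by decide) ed.symm
  have gf := nd_collapse (z := .g) (by decide) (by decide) (by decide) (by decide) (by decide) fe.symm
  have jg := nd_collapse (z := .j) (by decide) (by decide) (by decide) (by decide) (by decide) gf.symm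
  have ih := nd_collapse (z := .i) (by decide) (by decide) (by decide) (by decide) (by decide) hd.symm
  refine comm_of_all (edges := Fi23.edges) (extra := Fi23.extra) .b (fun x => ?_) x y
  cases x <;>
  first
  | exact ab
  | rfl
  | exact cb
  | exact dc.trans cb
  | exact ed.trans (dc.trans cb)
  | exact fe.trans (ed.trans (dc.trans cb))
  | exact gf.trans (fe.trans (ed.trans (dc.trans cb)))
  | exact hd.trans (dc.trans cb)
  | exact ih.trans (hd.trans (dc.trans cb))
  | exact jg.trans (gf.trans (fe.trans (ed.trans (dc.trans cb))))

theorem sFive_B (hn : ∃ x y : BabyMonster, x * y ≠ y * x) : SFive BabyMonster := by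
  obtain ⟨x, y, hxy⟩ := hn
  refine sFive_of_nodes ![.t1, .t2, .t3, .t4] (by decide) (by decide) (by decide) fun h => hxy ?_
  have e1 : nd BabyMonster.edges BabyMonster.extra .t1 = nd BabyMonster.edges BabyMonster.extra .t2 := h
  have e3 := nd_collapse (z := .t3) (by decide) (by decide) (by decide) (by decide) (by decide) e1
  have e4 := nd_collapse (z := .t4) (by decide) (by decide) (by decide) (by decide) (by decide) e3.symm
  have e5 := nd_collapse (z := .t5) (by decide) (by decide) (by decide) (by decide) (by decide) e4.symm
  have e6 := nd_collapse (z := .t6) (by decide) (by decide) (by decide) (by decide) (by decide) e5.symm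
  have e9 := nd_collapse (z := .t9) (by decide) (by decide) (by decide) (by decide) (by decide) e5.symm
  have e7 := nd_collapse (z := .t7) (by decide) (by decide) (by decide) (by decide) (by decide) e6.symm
  have e8 := nd_collapse (z := .t8) (by decide) (by decide) (by decide) (by decide) (by decide) e7.symm
  have e10 := nd_collapse (z := .t10) (by decide) (by decide) (by decide) (by decide) (by decide) e9.symm
  have e11 := nd_collapse (z := .t11) (by decide) (by decide) (by decide) (by decide) (by decide) e10.symm
  refine comm_of_all (edges := BabyMonster.edges) (extra := BabyMonster.extra) .t2 (fun x => ?_) x y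
  have f5 := e5.trans (e4.trans e3)
  cases x <;>
  first
  | exact e1
  | rfl
  | exact e3
  | exact e4.trans e3
  | exact f5
  | exact e6.trans f5
  | exact e7.trans (e6.trans f5)
  | exact e8.trans (e7.trans (e6.trans f5))
  | exact e9.trans f5
  | exact e10.trans (e9.trans f5)
  | exact e11.trans (e10.trans (e9.trans f5))

theorem sFive_Fi24' (hn : ∃ x y : Fi24', x * y ≠ y * x) : SFive Fi24' := by
  obtain ⟨x, y, hxy⟩ := hn
  have hbc := nd_mul_mem_commutator (edges := Fi24.edges) (extra := Fi24.extra) (x := .b) (y := .c)
    (by decide) (by decide) (by decide)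
  have hcd := nd_mul_mem_commutator (edges := Fi24.edges) (extra := Fi24.extra) (x := .c) (y := .d)
    (by decide) (by decide) (by decide)
  have hab := nd_mul_mem_commutator (edges := Fi24.edges) (extra := Fi24.extra) (x := .a) (y := .b)
    (by decide) (by decide) (by decide)
  have hka := nd_mul_mem_commutator (edges := Fi24.edges) (extra := Fi24.extra) (x := .k) (y := .a)
    (by decide) (by decide) (by decide)
  have hlk := nd_mul_mem_commutator (edges := Fi24.edges) (extra := Fi24.extra) (x := .l) (y := .k)
    (by decide) (by decide) (by decide)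
  have hbd := nd_mul_mem_trans (by decide) hbc hcd
  have had := nd_mul_mem_trans (by decide) hab hbd
  have hkd := nd_mul_mem_trans (by decide) hka had
  have hld := nd_mul_mem_trans (by decide) hlk hkd
  refine sFive_of_nodes_twist (commutator Fi24) (nd Fi24.edges Fi24.extra .d) (nd_sq (by decide))
    ![.l, .k, .a, .b] (by decide) (by decide) (by decide) ?_ ?_ fun h => hxy ?_
  · intro i
    fin_cases i <;> exact nd_comm (by decide) (by decide) (by decide)
  · intro i
    fin_cases i
    · exact hld
    · exact hkd
    · exact had
    · exact hbd
  have lk : nd Fi24.edges Fi24.extra .l = nd Fi24.edges Fi24.extra .k := h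
  have ak := nd_collapse (z := .a) (by decide) (by decide) (by decide) (by decide) (by decide) lk
  have ba := nd_collapse (z := .b) (by decide) (by decide) (by decide) (by decide) (by decide) ak.symm
  have cb := nd_collapse (z := .c) (by decide) (by decide) (by decide) (by decide) (by decide) ba.symm
  have dc := nd_collapse (z := .d) (by decide) (by decide) (by decide) (by decide) (by decide) cb.symm
  have ed := nd_collapse (z := .e) (by decide) (by decide) (by decide) (by decide) (by decide) dc.symm
  have hd := nd_collapse (z := .h) (by decide) (by decide) (by decide) (by decide) (by decide) dc.symm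
  have fe := nd_collapse (z := .f) (by decide) (by decide) (by decide) (by decide) (by decide) ed.symm
  have gf := nd_collapse (z := .g) (by decide) (by decide) (by decide) (by decide) (by decide) fe.symm
  have jg := nd_collapse (z := .j) (by decide) (by decide) (by decide) (by decide) (by decide) gf.symm
  have ih := nd_collapse (z := .i) (by decide) (by decide) (by decide) (by decide) (by decide) hd.symm
  have fd := dc.trans (cb.trans (ba.trans ak))
  apply Subtype.ext
  show (x : Fi24) * y = y * x
  refine comm_of_all (edges := Fi24.edges) (extra := Fi24.extra) .k (fun x => ?_) x y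
  cases x <;>
  first
  | exact lk
  | rfl
  | exact ak
  | exact ba.trans ak
  | exact cb.trans (ba.trans ak)
  | exact fd
  | exact ed.trans fd
  | exact fe.trans (ed.trans fd)
  | exact gf.trans (fe.trans (ed.trans fd))
  | exact jg.trans (gf.trans (fe.trans (ed.trans fd)))
  | exact hd.trans fd
  | exact ih.trans (hd.trans fd)

theorem sFive_M (hn : ∃ x y : Monster, x * y ≠ y * x) : SFive Monster := by
  obtain ⟨x, y, hxy⟩ := hn
  have hcb := nd_mul_mem_commutator (edges := Bimonster.edges) (extra := Bimonster.extra) (x := .c1) (y := .b1)
    (by decide) (by decide) (by decide)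
  have hba := nd_mul_mem_commutator (edges := Bimonster.edges) (extra := Bimonster.extra) (x := .b1) (y := .a)
    (by decide) (by decide) (by decide)
  have hdc := nd_mul_mem_commutator (edges := Bimonster.edges) (extra := Bimonster.extra) (x := .d1) (y := .c1)
    (by decide) (by decide) (by decide)
  have hed := nd_mul_mem_commutator (edges := Bimonster.edges) (extra := Bimonster.extra) (x := .e1) (y := .d1)
    (by decide) (by decide) (by decide)
  have hfe := nd_mul_mem_commutator (edges := Bimonster.edges) (extra := Bimonster.extra) (x := .f1) (y := .e1)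
    (by decide) (by decide) (by decide)
  have hca := nd_mul_mem_trans (by decide) hcb hba
  have hda := nd_mul_mem_trans (by decide) hdc hca
  have hea := nd_mul_mem_trans (by decide) hed hda
  have hfa := nd_mul_mem_trans (by decide) hfe hea
  have hac : ∀ i : Fin 4, nd Bimonster.edges Bimonster.extra .a *
      nd Bimonster.edges Bimonster.extra ((![.c1, .d1, .e1, .f1] : Fin 4 → Bimonster.Gen) i) =
      nd Bimonster.edges Bimonster.extra ((![.c1, .d1, .e1, .f1] : Fin 4 → Bimonster.Gen) i) *
      nd Bimonster.edges Bimonster.extra .a := by
    intro i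
    fin_cases i <;> exact nd_comm (by decide) (by decide) (by decide)
  refine sFive_of_nodes_twist (Subgroup.centralizer {(PresentedGroup.of Bimonster.Gen.a : Bimonster)} ⊓
      commutator Bimonster) (nd Bimonster.edges Bimonster.extra .a) (nd_sq (by decide))
    ![.c1, .d1, .e1, .f1] (by decide) (by decide) (by decide) hac ?_ fun h => hxy ?_
  · intro i
    refine Subgroup.mem_inf.2 ⟨?_, ?_⟩
    · rw [Subgroup.mem_centralizer_singleton_iff]
      show _ * nd Bimonster.edges Bimonster.extra .a = nd Bimonster.edges Bimonster.extra .a * _
      rw [← mul_assoc, hac i]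
    · fin_cases i
      · exact hca
      · exact hda
      · exact hea
      · exact hfa
  have cd : nd Bimonster.edges Bimonster.extra .c1 = nd Bimonster.edges Bimonster.extra .d1 := h
  have bc := nd_collapse (z := .b1) (by decide) (by decide) (by decide) (by decide) (by decide) cd.symm
  have ab := nd_collapse (z := .a) (by decide) (by decide) (by decide) (by decide) (by decide) bc.symm
  have ed := nd_collapse (z := .e1) (by decide) (by decide) (by decide) (by decide) (by decide) cd
  have fe := nd_collapse (z := .f1) (by decide) (by decide) (by decide) (by decide) (by decide) ed.symm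
  have b2 := nd_collapse (z := .b2) (by decide) (by decide) (by decide) (by decide) (by decide) ab.symm
  have c2 := nd_collapse (z := .c2) (by decide) (by decide) (by decide) (by decide) (by decide) b2.symm
  have d2 := nd_collapse (z := .d2) (by decide) (by decide) (by decide) (by decide) (by decide) c2.symm
  have e2 := nd_collapse (z := .e2) (by decide) (by decide) (by decide) (by decide) (by decide) d2.symm
  have f2 := nd_collapse (z := .f2) (by decide) (by decide) (by decide) (by decide) (by decide) e2.symm
  have b3 := nd_collapse (z := .b3) (by decide) (by decide) (by decide) (by decide) (by decide) ab.symm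
  have c3 := nd_collapse (z := .c3) (by decide) (by decide) (by decide) (by decide) (by decide) b3.symm
  have d3 := nd_collapse (z := .d3) (by decide) (by decide) (by decide) (by decide) (by decide) c3.symm
  have e3 := nd_collapse (z := .e3) (by decide) (by decide) (by decide) (by decide) (by decide) d3.symm
  have f3 := nd_collapse (z := .f3) (by decide) (by decide) (by decide) (by decide) (by decide) e3.symm
  have fa := ab.trans (bc.trans cd)
  apply Subtype.ext
  show (x : Bimonster) * y = y * x
  refine comm_of_all (edges := Bimonster.edges) (extra := Bimonster.extra) .d1 (fun x => ?_) x y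
  cases x <;>
  first
  | exact fa
  | exact bc.trans cd
  | exact cd
  | rfl
  | exact ed
  | exact fe.trans ed
  | exact b2.trans fa
  | exact c2.trans (b2.trans fa)
  | exact d2.trans (c2.trans (b2.trans fa))
  | exact e2.trans (d2.trans (c2.trans (b2.trans fa)))
  | exact f2.trans (e2.trans (d2.trans (c2.trans (b2.trans fa))))
  | exact b3.trans fa
  | exact c3.trans (b3.trans fa)
  | exact d3.trans (c3.trans (b3.trans fa))
  | exact e3.trans (d3.trans (c3.trans (b3.trans fa)))
  | exact f3.trans (e3.trans (d3.trans (c3.trans (b3.trans fa))))

theorem noncomm_of_equiv {G H : Type*} [Group G] [Group H] (e : G ≃* H) (hG : ∃ x y : G, x * y ≠ y * x) :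
    ∃ x y : H, x * y ≠ y * x := by
  obtain ⟨x, y, h⟩ := hG
  exact ⟨e x, e y, fun h1 => h (e.injective (by rw [map_mul, map_mul, h1]))⟩

variable {G : Type*} [Group G] [Finite G] [IsSimpleGroup G]

theorem bad_of_Fi22 (hG : ∃ x y : G, x * y ≠ y * x) (h : Spor.IsoFi22 G) : Bad G := by
  obtain ⟨e⟩ := h
  exact bad_of_sFive ((sFive_Fi22 (noncomm_of_equiv e hG)).map e.symm.toMonoidHom e.symm.injective)

theorem bad_of_Fi23 (hG : ∃ x y : G, x * y ≠ y * x) (h : Spor.IsoFi23 G) : Bad G := by
  obtain ⟨e⟩ := h
  exact bad_of_sFive ((sFive_Fi23 (noncomm_of_equiv e hG)).map e.symm.toMonoidHom e.symm.injective)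

theorem bad_of_Fi24' (hG : ∃ x y : G, x * y ≠ y * x) (h : Spor.IsoFi24' G) : Bad G := by
  obtain ⟨e⟩ := h
  exact bad_of_sFive ((sFive_Fi24' (noncomm_of_equiv e hG)).map e.symm.toMonoidHom e.symm.injective)

theorem bad_of_BMonster (hG : ∃ x y : G, x * y ≠ y * x) (h : Spor.IsoB G) : Bad G := by
  obtain ⟨e⟩ := h
  exact bad_of_sFive ((sFive_B (noncomm_of_equiv e hG)).map e.symm.toMonoidHom e.symm.injective)

theorem bad_of_M (hG : ∃ x y : G, x * y ≠ y * x) (h : Spor.IsoM G) : Bad G := by
  obtain ⟨e⟩ := h
  exact bad_of_sFive ((sFive_M (noncomm_of_equiv e hG)).map e.symm.toMonoidHom e.symm.injective)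

end Cfsg.Agent.H938
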