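import Cfsg.Agent.H938.SpSub
import Cfsg.Agent.H938.SpCoxInst
import Cfsg.Agent.S2131
import Cfsg.Agent.S2135
import Cfsg.Agent.KFacts.J2.Facts
import Cfsg.Agent.J2Type.CentU
import Cfsg.Agent.J2Type.Order
import Cfsg.Agent.KFacts.Th.Main
import Cfsg.Agent.CTwoTab.Ru

/-!
# `J1`, `J2`, `J3`, `Ru`, `Th`, and all the sporadic groups
-/

set_option autoImplicit false

namespace Cfsg.Agent.H938

open Cfsg

theorem Bad.of_surjective {G A : Type*} [Group G] [Group A] (f : G →* A) (hf : Function.Surjective f) (h : Bad A) :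
    Bad G := by
  obtain ⟨L, K, h1, h2, h3⟩ := h
  refine ⟨L.comap f, K.comap f, ?_, ?_, ?_⟩
  · exact (Subgroup.comap_lt_comap_of_surjective hf).2 h1
  · intro h
    apply h2
    rw [eq_top_iff]
    intro x _
    obtain ⟨y, rfl⟩ := hf x
    have h4 : y ∈ K.comap f := h ▸ Subgroup.mem_top _
    exact h4
  · intro h
    apply h3
    have h4 := isSolvable_map f h
    rwa [Subgroup.map_comap_eq_self_of_surjective hf] at h4

theorem bad_of_lt {G : Type*} [Group G] {K : Subgroup G} (L : Subgroup K) (hK : K ≠ ⊤) (hL : L ≠ ⊤)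
    (hs : ¬ Group.IsSolvable L) : Bad G := by
  have hs' : ¬ Group.IsSolvable ↥(L.map K.subtype) := fun h =>
    hs (Group.isSolvable_of_isSolvable_injective
      (f := (L.equivMapOfInjective K.subtype K.subtype_injective).toMonoidHom)
      (L.equivMapOfInjective K.subtype K.subtype_injective).injective)
  refine ⟨L.map K.subtype, K, ?_, hK, hs'⟩
  have h1 : L.map K.subtype < (⊤ : Subgroup K).map K.subtype :=
    (Subgroup.map_lt_map_iff_of_injective K.subtype_injective).2 (lt_top_iff_ne_top.2 hL)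
  rwa [← MonoidHom.range_eq_map, Subgroup.range_subtype] at h1

theorem centralizer_ne_top {G : Type*} [Group G] [IsSimpleGroup G] (hG : ∃ x y : G, x * y ≠ y * x) {t : G}
    (ht : t ≠ 1) : Subgroup.centralizer ({t} : Set G) ≠ ⊤ := by
  intro h
  obtain ⟨x, y, hxy⟩ := hG
  have h1 : t ∈ Subgroup.center G := by
    rw [Subgroup.mem_center_iff]
    intro g
    have hg : g ∈ Subgroup.centralizer ({t} : Set G) := h ▸ Subgroup.mem_top g
    exact Subgroup.mem_centralizer_singleton_iff.1 hg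
  rcases (inferInstance : (Subgroup.center G).Normal).eq_bot_or_eq_top with h2 | h2
  · rw [h2, Subgroup.mem_bot] at h1
    exact ht h1
  · have h3 : x ∈ Subgroup.center G := h2 ▸ Subgroup.mem_top x
    exact hxy (Subgroup.mem_center_iff.1 h3 y).symm

theorem not_solvable_alt_five : ¬ Group.IsSolvable (alternatingGroup (Fin 5)) := by
  have : IsSimpleGroup (alternatingGroup (Fin 5)) := isSimpleGroup_alt_five
  apply not_isSolvable_of_simple
  intro h
  have h1 : ∃ x y : alternatingGroup (Fin 5), x * y ≠ y * x := by decide +kernel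
  obtain ⟨x, y, hxy⟩ := h1
  exact hxy (h.is_comm.comm x y)

variable {G : Type*} [Group G] [Finite G] [IsSimpleGroup G]

theorem bad_of_J1 (h : Spor.IsoJ1 G) : Bad G := by
  obtain ⟨e⟩ := h
  obtain ⟨t, -, ⟨f⟩⟩ := Cfsg.Agent.S2131.result
  have hs : IsSimpleGroup Spor.J1 := e.symm.isSimpleGroup
  have hn : Nontrivial (Multiplicative (ZMod 2)) := inferInstance
  exact Bad.mono e.symm.toMonoidHom e.symm.injective (bad_of_prod f not_solvable_alt_five)

theorem bad_of_J2 (h : Spor.IsoJ2 G) : Bad G := by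
  obtain ⟨t, u, Q, v, ρ, D⟩ := Cfsg.Agent.KFacts.J2.Facts.exists_dat_of h
  obtain ⟨H0, S⟩ := Cfsg.Agent.J2Type.CentU.exists_hstr D.F
  obtain ⟨-, -, -, ⟨e⟩⟩ := Cfsg.Agent.J2Type.Order.order_of_fus D.F S
  refine bad_of_commute_one (L := H0) (not_solvable_of_equiv e not_solvable_alt_five) (x := u) ?_ S.notMem
  intro l hl
  exact (Subgroup.mem_centralizer_singleton_iff.1 (S.le hl)).symm

theorem bad_of_J3 (hG : ∃ x y : G, x * y ≠ y * x) (h : Spor.IsoJ3 G) : Bad G := by
  obtain ⟨F, _, _, ω, hF, hω, ⟨e⟩⟩ := h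
  obtain ⟨-, t, ht, Q, hn, -, hQ, -, ⟨H, hH⟩, ⟨f⟩⟩ := Cfsg.Agent.S2135.result hF ω hω
  have hs : IsSimpleGroup (Spor.J3 F ω) := e.symm.isSimpleGroup
  refine Bad.mono e.symm.toMonoidHom e.symm.injective (bad_of_lt H ?_ ?_ fun hsol => ?_)
  · refine centralizer_ne_top (noncomm_of_equiv e hG) ?_
    rintro rfl
    rw [orderOf_one] at ht
    omega
  · rintro rfl
    have h1 : Q = ⊥ := by
      have := hH.disjoint
      rwa [disjoint_top] at this
    rw [h1, Subgroup.card_bot] at hQ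
    omega
  · apply not_solvable_alt_five
    have h2 : Function.Surjective ((QuotientGroup.mk' Q).comp H.subtype) := by
      intro x
      obtain ⟨g, rfl⟩ := QuotientGroup.mk'_surjective Q x
      obtain ⟨⟨q, k⟩, hqk⟩ := hH.surjective g
      refine ⟨k, ?_⟩
      rw [← hqk]
      simp only [MonoidHom.comp_apply, Subgroup.coe_subtype, map_mul]
      have h3 : QuotientGroup.mk' Q (q : _) = 1 := (QuotientGroup.eq_one_iff _).2 q.2
      rw [h3, one_mul]
    exact Group.isSolvable_of_surjective (f := f.toMonoidHom.comp ((QuotientGroup.mk' Q).comp H.subtype))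
      (f.surjective.comp h2)

theorem bad_of_Ru (h : Spor.IsoRu G) : Bad G := by
  obtain ⟨C, hsz, -⟩ := Cfsg.Agent.CTwoTab.Ru.exists_core_sz h
  have hs : IsSimpleGroup ↥C.L := Cfsg.Agent.CTwoTab.Ru.simple_sz hsz
  have hna := Cfsg.Agent.CTwoTab.Ru.na_L C
  refine bad_of_commute_one (L := C.L) (not_isSolvable_of_simple hna) (x := C.v (1, 0)) ?_ ?_
  · intro l hl
    exact C.v_comm _ l hl
  · intro hv
    exact absurd (C.v_notin _ hv) (by decide)

/-- an even permutation of order four -/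
def d9 : Equiv.Perm (Fin 9) := Equiv.swap 0 2 * Equiv.swap 2 1 * Equiv.swap 1 3 * Equiv.swap 5 6
/-- a three-cycle -/
def b9 : Equiv.Perm (Fin 9) := Equiv.swap 1 2 * Equiv.swap 2 4

theorem d9_mem : d9 ∈ alternatingGroup (Fin 9) := Equiv.Perm.mem_alternatingGroup.2 (by decide +kernel)
theorem b9_mem : b9 ∈ alternatingGroup (Fin 9) := Equiv.Perm.mem_alternatingGroup.2 (by decide +kernel)
theorem k9_1 : (d9 * d9) ^ 2 = 1 := by decide +kernel
theorem k9_2 : b9 ^ 3 = 1 := by decide +kernel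
theorem k9_3 : (d9 * d9 * b9) ^ 5 = 1 := by decide +kernel
theorem k9_4 : d9 * d9 ≠ 1 := by decide +kernel
theorem k9_5 : d9 * b9 * d9⁻¹ = d9 * d9 * b9 * (d9 * d9) * b9⁻¹ * (d9 * d9) * b9 := by decide +kernel

theorem sFive_sub {P : Type*} [Group P] {K : Subgroup P} {b d : P} (hb : b ∈ K) (hd : d ∈ K)
    (h1 : (d * d) ^ 2 = 1) (h2 : b ^ 3 = 1) (h3 : (d * d * b) ^ 5 = 1) (h4 : d * d ≠ 1)
    (h5 : d * b * d⁻¹ = d * d * b * (d * d) * b⁻¹ * (d * d) * b) : SFive K :=
  ⟨⟨d, hd⟩ * ⟨d, hd⟩, ⟨b, hb⟩, ⟨d, hd⟩, Subtype.ext h1, Subtype.ext h2, Subtype.ext h3,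
    fun h => h4 (congrArg Subtype.val h), rfl, Subtype.ext h5⟩

theorem bad_alt_nine : Bad (alternatingGroup (Fin 9)) := by
  have hs : IsSimpleGroup (alternatingGroup (Fin 9)) := alternatingGroup.isSimpleGroup (by simp)
  exact bad_of_sFive (sFive_sub b9_mem d9_mem k9_1 k9_2 k9_3 k9_4 k9_5)

theorem bad_of_Th (h : Spor.IsoTh G) : Bad G := by
  obtain ⟨e⟩ := h
  obtain ⟨f, hf, -⟩ := Cfsg.Agent.KFacts.Th.Main.ctx.exists_epi
  exact Bad.mono e.symm.toMonoidHom e.symm.injective (Bad.mono (Subgroup.subtype _) (Subgroup.subtype_injective _)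
    (bad_alt_nine.of_surjective f hf))

/-- **All the sporadic groups have chains of insoluble subgroups.** -/
theorem bad_of_sporadic (hG : ∃ x y : G, x * y ≠ y * x) (h : IsSporadicGroup G) : Bad G := by
  rcases h with h | h | h | h | h | h | h | h | h | h | h | h | h | h | h | h | h | h | h | h | h | h | h | h | h | h
  · exact bad_of_M11 h
  · exact bad_of_M12 h
  · exact bad_of_M22 h
  · exact bad_of_M23 h
  · exact bad_of_M24 h
  · exact bad_of_J1 h
  · exact bad_of_J2 h
  · exact bad_of_J3 hG h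
  · exact bad_of_J4 h
  · exact bad_of_Co1 h
  · exact bad_of_Co2 h
  · exact bad_of_Co3 h
  · exact bad_of_McL h
  · exact bad_of_HS h
  · exact bad_of_Suz h
  · exact bad_of_He h
  · exact bad_of_Ru h
  · exact bad_of_ON h
  · exact bad_of_Ly h
  · exact bad_of_Fi22 hG h
  · exact bad_of_Fi23 hG h
  · exact bad_of_Fi24' hG h
  · exact bad_of_HN h
  · exact bad_of_Th h
  · exact bad_of_BMonster hG h
  · exact bad_of_M hG h

end Cfsg.Agent.H938
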