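import Cfsg.Agent.H938.SpConway
import Cfsg.Agent.H938.LieSmall
import Cfsg.Agent.S1711
import Cfsg.Agent.S1710
import Cfsg.Agent.S1693
import Cfsg.Agent.S1708
import Cfsg.Agent.S1679
import Cfsg.Agent.S1682
import Cfsg.Agent.S1055
import Cfsg.Agent.S0249
import Cfsg.Agent.S0270

/-!
# `J4`, `Ly`, `ON`, `HN`, `Suz`, `He`
-/

set_option autoImplicit false

namespace Cfsg.Agent.H938

open Cfsg

theorem Bad.mono {G H : Type*} [Group G] [Group H] (f : H →* G) (hf : Function.Injective f) (h : Bad H) : Bad G := by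
  obtain ⟨L, K, h1, h2, h3⟩ := h
  refine ⟨L.map f, K.map f, ?_, ?_, ?_⟩
  · exact (Subgroup.map_lt_map_iff_of_injective hf).2 h1
  · intro h
    apply h2
    rw [eq_top_iff]
    intro x _
    have h4 : f x ∈ K.map f := h ▸ Subgroup.mem_top _
    obtain ⟨y, hy, hxy⟩ := h4
    rwa [← hf hxy]
  · intro h
    exact h3 (Group.isSolvable_of_isSolvable_injective (f := (L.equivMapOfInjective f hf).toMonoidHom)
      (L.equivMapOfInjective f hf).injective)

theorem SFive.not_solvable {M : Type*} [Group M] (h : SFive M) : ¬ Group.IsSolvable M := by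
  obtain ⟨a, b, d, ha, hb, hab, ha1, hd, hdb⟩ := h
  intro hs
  exact not_isSolvable_five ha hb hab ha1 inferInstance

theorem not_solvable_of_equiv {G H : Type*} [Group G] [Group H] (e : G ≃* H) (h : ¬ Group.IsSolvable H) :
    ¬ Group.IsSolvable G :=
  fun h1 => h (Group.isSolvable_of_surjective (f := e.toMonoidHom) e.surjective)

/-- A subgroup `K` with an insoluble normal subgroup `N ≠ K`. -/
theorem bad_of_normal {G : Type*} [Group G] [IsSimpleGroup G] {K : Subgroup G} (N : Subgroup K) (hn : N.Normal)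
    (hne : N ≠ ⊤) (hN : ¬ Group.IsSolvable N) : Bad G := by
  have hs : ¬ Group.IsSolvable ↥(N.map K.subtype) := fun h =>
    hN (Group.isSolvable_of_isSolvable_injective
      (f := (N.equivMapOfInjective K.subtype K.subtype_injective).toMonoidHom)
      (N.equivMapOfInjective K.subtype K.subtype_injective).injective)
  have hlt : N.map K.subtype < K := by
    have h1 : N.map K.subtype < (⊤ : Subgroup K).map K.subtype :=
      (Subgroup.map_lt_map_iff_of_injective K.subtype_injective).2 (lt_top_iff_ne_top.2 hne)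
    rwa [← MonoidHom.range_eq_map, Subgroup.range_subtype] at h1
  refine ⟨N.map K.subtype, K, hlt, ?_, hs⟩
  intro hK
  subst hK
  have h2 : (N.map (⊤ : Subgroup G).subtype).Normal := by
    constructor
    rintro _ ⟨x, hx, rfl⟩ g
    exact ⟨⟨g, Subgroup.mem_top g⟩ * x * ⟨g, Subgroup.mem_top g⟩⁻¹, hn.conj_mem x hx _, rfl⟩
  rcases h2.eq_bot_or_eq_top with h3 | h3
  · apply hs
    rw [h3]
    infer_instance
  · exact hlt.ne h3

variable {G : Type*} [Group G] [Finite G] [IsSimpleGroup G]

theorem bad_of_J4 (h : Spor.IsoJ4 G) : Bad G := by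
  obtain ⟨e⟩ := h
  obtain ⟨f⟩ := Cfsg.Agent.S1711.result
  have h1 := Mathieu.sFive_M24.map f.symm.toMonoidHom f.symm.injective
  have h2 := h1.map (Subgroup.subtype _) (Subgroup.subtype_injective _)
  exact bad_of_sFive (SFive.map e.symm.toMonoidHom e.symm.injective h2)

theorem bad_chevG2 (F : Type) [Field F] [Fintype F] (h : 3 ≤ Fintype.card F) : Bad ↥(Lie.chevG2.group F) := by
  have h3 : ∃ a : F, a ≠ 0 ∧ a ≠ 1 := by
    classical
    by_contra hc
    push Not at hc
    have h4 : (Finset.univ : Finset F) ⊆ {0, 1} := by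
      intro a _
      by_cases ha : a = 0
      · simp [ha]
      · simp [hc a ha]
    have h5 := (Finset.card_le_card h4).trans Finset.card_le_two
    rw [Finset.card_univ] at h5
    omega
  have h1 : IsSimpleGroup ↥(Lie.chevG2.group F) := (Cfsg.Agent.S1055.result h3).1
  exact g2_list ⟨F, inferInstance, inferInstance, h, ⟨MulEquiv.refl _⟩⟩

theorem bad_of_Ly (h : Spor.IsoLy G) : Bad G := by
  obtain ⟨e⟩ := h
  obtain ⟨K, _, _, hK, ⟨f⟩⟩ := Cfsg.Agent.S1710.result
  have h1 := (bad_chevG2 K (by omega)).mono f.symm.toMonoidHom f.symm.injective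
  have h2 := h1.mono (Subgroup.subtype _) (Subgroup.subtype_injective _)
  exact Bad.mono e.symm.toMonoidHom e.symm.injective h2

theorem bad_of_Suz (h : Spor.IsoSuz G) : Bad G := by
  obtain ⟨e⟩ := h
  obtain ⟨K, _, _, hK, ⟨f⟩⟩ := Cfsg.Agent.S1679.result
  have h1 := (bad_chevG2 K (by omega)).mono f.symm.toMonoidHom f.symm.injective
  have h2 := h1.mono (Subgroup.subtype _) (Subgroup.subtype_injective _)
  exact Bad.mono e.symm.toMonoidHom e.symm.injective h2

theorem not_solvable_PSL_three_seven :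
    ¬ Group.IsSolvable (Matrix.ProjectiveSpecialLinearGroup (Fin 3) (ZMod 7)) := by
  have h7' : Fact (Nat.Prime 7) := ⟨by norm_num⟩
  have h7 : IsSimpleGroup (Matrix.ProjectiveSpecialLinearGroup (Fin 3) (ZMod 7)) :=
    Cfsg.Agent.S0249.result 3 le_rfl
  apply not_isSolvable_of_simple
  intro hc
  have hf : Fintype.card (ZMod 7) = 7 := ZMod.card 7
  have h := Cfsg.Agent.S0243.result (F := ZMod 7) (q := 7) hf 3 (by norm_num)
  rw [Fin.prod_univ_three] at h
  simp only [Fin.val_zero, Fin.val_one, Fin.val_two] at h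
  have h3 : Nat.gcd 3 (7 - 1) = 3 := by decide
  rw [h3] at h
  have h1 : Nat.card (Matrix.ProjectiveSpecialLinearGroup (Fin 3) (ZMod 7)) = 1876896 := by
    generalize Nat.card (Matrix.ProjectiveSpecialLinearGroup (Fin 3) (ZMod 7)) = N at h ⊢
    norm_num at h
    omega
  have hp : (Nat.card (Matrix.ProjectiveSpecialLinearGroup (Fin 3) (ZMod 7))).Prime := by
    let _ : CommGroup (Matrix.ProjectiveSpecialLinearGroup (Fin 3) (ZMod 7)) :=
      { (inferInstance : Group (Matrix.ProjectiveSpecialLinearGroup (Fin 3) (ZMod 7))) with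
        mul_comm := hc.is_comm.comm }
    exact IsSimpleGroup.prime_card
  rw [h1] at hp
  exact absurd hp (by norm_num)

theorem bad_of_ON (h : Spor.IsoON G) : Bad G := by
  obtain ⟨e⟩ := h
  obtain ⟨N, hn, hi, ⟨f⟩⟩ := Cfsg.Agent.S1693.result
  have hs : IsSimpleGroup Spor.ON := e.symm.isSimpleGroup
  refine Bad.mono e.symm.toMonoidHom e.symm.injective (bad_of_normal N hn ?_
    (not_solvable_of_equiv f not_solvable_PSL_three_seven))
  rintro rfl
  rw [Subgroup.index_top] at hi
  omega

theorem bad_of_HN (h : Spor.IsoHN G) : Bad G := by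
  obtain ⟨e⟩ := h
  obtain ⟨N, hn, hi, -, ⟨f⟩, -⟩ := Cfsg.Agent.S1708.result
  have hs : IsSimpleGroup Spor.HN := e.symm.isSimpleGroup
  refine Bad.mono e.symm.toMonoidHom e.symm.injective (bad_of_normal N hn ?_ fun hsol => ?_)
  · rintro rfl
    rw [Subgroup.index_top] at hi
    omega
  · apply not_solvable_of_equiv f Conway.sFive_HS.not_solvable
    exact Group.isSolvable_of_surjective (f := QuotientGroup.mk' _) (QuotientGroup.mk'_surjective _)

theorem Bad.not_solvable {G : Type*} [Group G] (h : Bad G) : ¬ Group.IsSolvable G := by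
  obtain ⟨L, K, -, -, hL⟩ := h
  exact fun _ => hL inferInstance

theorem bad_of_He (h : Spor.IsoHe G) : Bad G := by
  obtain ⟨e⟩ := h
  obtain ⟨N, K, _, _, hn, hi, hK, ⟨f⟩⟩ := Cfsg.Agent.S1682.result
  have hs : IsSimpleGroup Spor.He := e.symm.isSimpleGroup
  refine Bad.mono e.symm.toMonoidHom e.symm.injective (bad_of_normal N hn ?_ fun hsol => ?_)
  · rintro rfl
    rw [Subgroup.index_top] at hi
    omega
  · have h1 : IsSimpleGroup (PSp 2 K) := Cfsg.Agent.S0270.result 2 le_rfl (fun _ => by omega)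
    have h2 : Bad (PSp 2 K) := s4_list (by omega) (MulEquiv.refl _)
    have h3 : Group.IsSolvable (Matrix.symplecticGroup (Fin 2) K) :=
      Group.isSolvable_of_surjective (f := f.toMonoidHom) f.surjective
    exact h2.not_solvable (Group.isSolvable_of_surjective (f := QuotientGroup.mk' _) (QuotientGroup.mk'_surjective _))

end Cfsg.Agent.H938
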